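import Groth.Agent.Hopf.CST.Grading
import Groth.Agent.Hopf.Push
import Groth.Agent.Hopf.StabVec
import Groth.Prelude.Def_ComodSub

/-!
# Chevalley's lemma for groups generated by pseudo-reflections
-/

set_option autoImplicit false

universe u

open MvPolynomial TensorProduct

noncomputable section

namespace Groth.ComodLib.CST

set_option linter.unusedSectionVars false

variable {k : Type u} [Field k] {A : Type u} [CommRing A] [HopfAlgebra k A] {ι : Type u} [Fintype ι]
  [HopfRep.Comod k A (MvPolynomial ι k)] [GLin.IsCoactAlg k A (MvPolynomial ι k)]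

/-- invariant linear forms under a subgroup, by operators -/
theorem mem_quotInvariants_iff_op (I : Ideal A) {V : Type u} [AddCommGroup V] [Module k V]
    [HopfRep.Comod k A V] (f : V) :
    f ∈ GLin.quotInvariants k A V I ↔
      ∀ φ : A →ₗ[k] k, (∀ a ∈ I, φ a = 0) → op φ f = φ 1 • f := by
  rw [GLin.mem_quotInvariants_iff]
  constructor
  · intro h φ hφ
    let φ' : A ⧸ I →ₗ[k] k := (I.restrictScalars k).liftQ φ hφ
    have h1 := congrArg (slice φ') h
    rw [slice_lTensor, slice_tmul] at h1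
    exact h1
  · intro h
    refine ext_slice fun φ' => ?_
    rw [slice_lTensor, slice_tmul]
    refine h (φ' ∘ₗ (Ideal.Quotient.mkₐ k I).toLinearMap) fun a ha => ?_
    simp [Ideal.Quotient.eq_zero_iff_mem.2 ha]

/-- a stable complement of the invariants of codimension one -/
theorem exists_line {B : Type u} [CommRing B] [Bialgebra k B] {V : Type u} [AddCommGroup V] [Module k V]
    [HopfRep.Comod k B V] (hB : HopfRep.IsLinearlyReductive k B) {L : Submodule k V}
    [FiniteDimensional k L] (hL : HopfRep.IsSubcomod (k := k) (A := B) L)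
    (hrank : Module.finrank k ↥(L ⊓ HopfRep.fixedPts k B V) + 1 = Module.finrank k L) :
    ∃ l ∈ L, l ≠ 0 ∧ (∀ φ : B →ₗ[k] k, op φ l - φ 1 • l ∈ k ∙ l) ∧
      L ≤ (L ⊓ HopfRep.fixedPts k B V) ⊔ k ∙ l := by
  obtain ⟨E, hE⟩ := GitQuot.exists_reynolds (V := V) (A := B) hB
  let C := L ⊓ LinearMap.ker E
  have hWC : (L ⊓ HopfRep.fixedPts k B V) ⊔ C = L := by
    refine le_antisymm (sup_le inf_le_left inf_le_left) fun f hf => ?_
    have h1 : E f ∈ L := hE.apply_mem_of_mem hB hL hf
    refine Submodule.mem_sup.2 ⟨E f, ⟨h1, hE.apply_mem f⟩, f - E f,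
      ⟨Submodule.sub_mem _ hf h1, ?_⟩, add_sub_cancel _ _⟩
    rw [SetLike.mem_coe, LinearMap.mem_ker, map_sub, ← LinearMap.comp_apply, hE.idem, sub_self]
  have hdisj : (L ⊓ HopfRep.fixedPts k B V) ⊓ C = ⊥ := by
    refine eq_bot_iff.2 fun f hf => ?_
    rw [Submodule.mem_bot, ← (hE.fixed f).2 hf.1.2]
    exact hf.2.2
  have : Module.Finite k ↥(L ⊓ HopfRep.fixedPts k B V) := Submodule.finiteDimensional_of_le inf_le_left
  have : Module.Finite k C := Submodule.finiteDimensional_of_le inf_le_left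
  have hC1 : Module.finrank k C = 1 := by
    have h := Submodule.finrank_sup_add_finrank_inf_eq (L ⊓ HopfRep.fixedPts k B V) C
    rw [hWC, hdisj, finrank_bot] at h
    omega
  obtain ⟨⟨l, hlC⟩, hl0, hlspan⟩ := finrank_eq_one_iff'.1 hC1
  have hCl : C ≤ k ∙ l := fun g hg => by
    obtain ⟨t, ht⟩ := hlspan ⟨g, hg⟩
    exact Submodule.mem_span_singleton.2 ⟨t, congrArg Subtype.val ht⟩
  refine ⟨l, hlC.1, fun h => hl0 (Subtype.ext h), fun φ => hCl (Submodule.sub_mem _ ⟨(isSubcomod_iff L).1 hL φ l hlC.1, ?_⟩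
    (C.smul_mem _ hlC)), hWC.ge.trans (sup_le_sup_left hCl _)⟩
  rw [SetLike.mem_coe, LinearMap.mem_ker, isComodHom_op hE.hom, LinearMap.mem_ker.1 hlC.2, map_zero]

/-- a pseudo-reflection moves every polynomial by a multiple of a fixed linear form -/
theorem exists_divisor (hlin : GLin.IsLinear k A ι)
    (hsub : ∀ (I : Ideal A) [I.IsHopfIdeal k], HopfRep.IsLinearlyReductive k (A ⧸ I))
    {I : Ideal A} (hI : GLin.IsPseudoRefl k A ι I) :
    ∃ l : MvPolynomial ι k, l ≠ 0 ∧ l.IsHomogeneous 1 ∧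
      ∀ φ : A →ₗ[k] k, (∀ a ∈ I, φ a = 0) → ∀ f : MvPolynomial ι k, l ∣ op φ f - φ 1 • f := by
  classical
  have := hI.1
  let π : A →ₐc[k] A ⧸ I := Bialgebra.Quotient.mkBialgHom I
  have : Module.Finite k (GLin.linForms k ι) :=
    Module.Finite.iff_fg.2 (homogeneousSubmodule_fg ι k 1)
  -- the line in the comodule of the subgroup
  obtain ⟨l, hl1, hl0, hlop, hspan⟩ : ∃ l : MvPolynomial ι k, l.IsHomogeneous 1 ∧ l ≠ 0 ∧
      (∀ φ : A →ₗ[k] k, (∀ a ∈ I, φ a = 0) → op φ l - φ 1 • l ∈ k ∙ l) ∧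
      GLin.linForms k ι ≤ (GLin.linForms k ι ⊓ GLin.quotInvariants k A (MvPolynomial ι k) I) ⊔ k ∙ l := by
    let cP : HopfRep.Comod k A (MvPolynomial ι k) := inferInstance
    let cN : HopfRep.Comod k (A ⧸ I) (MvPolynomial ι k) := pushComod π.toCoalgHom cP
    have hfix : HopfRep.fixedPts k (A ⧸ I) (MvPolynomial ι k) =
        GLin.quotInvariants k A (MvPolynomial ι k) I := Submodule.ext fun f => Iff.rfl
    obtain ⟨l, h1, h2, h3, h4⟩ := exists_line (hsub I) (L := GLin.linForms k ι)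
      ((isSubcomod_iff _).2 fun φ' f hf => by
        rw [op_push π.toCoalgHom cP φ' f]
        exact isHomogeneous_op hlin _ hf) (by rw [hfix]; exact hI.2)
    refine ⟨l, h1, h2, fun φ hφ => ?_, hfix ▸ h4⟩
    have h := h3 ((I.restrictScalars k).liftQ φ hφ)
    rw [op_push π.toCoalgHom cP] at h
    exact h
  refine ⟨l, hl0, hl1, fun φ hφ f => ?_⟩
  -- two algebra maps into `P/(l) ⊗ A/I`
  let T := MvPolynomial ι k ⧸ Ideal.span {l}
  let F : MvPolynomial ι k →ₐ[k] T ⊗[k] (A ⧸ I) :=
    (Algebra.TensorProduct.map (Ideal.Quotient.mkₐ k (Ideal.span {l})) (Ideal.Quotient.mkₐ k I)).comp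
      (GLin.coactAlgHom k A (MvPolynomial ι k))
  let G : MvPolynomial ι k →ₐ[k] T ⊗[k] (A ⧸ I) :=
    (Algebra.TensorProduct.includeLeft (R := k) (S := k)).comp (Ideal.Quotient.mkₐ k (Ideal.span {l}))
  let q : MvPolynomial ι k →ₗ[k] T := (Ideal.Quotient.mkₐ k (Ideal.span {l})).toLinearMap
  have hq : ∀ g, q g = 0 ↔ l ∣ g := fun g => by
    rw [← Ideal.mem_span_singleton]; exact Ideal.Quotient.eq_zero_iff_mem
  have hslice : ∀ (φ' : A ⧸ I →ₗ[k] k) (g : MvPolynomial ι k),
      slice φ' (F g) = q (op (φ' ∘ₗ (Ideal.Quotient.mkₐ k I).toLinearMap) g) := by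
    intro φ' g
    rw [op_apply]
    change slice φ' ((Algebra.TensorProduct.map (Ideal.Quotient.mkₐ k (Ideal.span {l})) (Ideal.Quotient.mkₐ k I))
      (HopfRep.Comod.coact (k := k) (A := A) g)) = _
    generalize HopfRep.Comod.coact (k := k) (A := A) g = z
    induction z with
    | zero => simp
    | tmul a b => simp [slice, q, Ideal.Quotient.mkₐ_eq_mk]
    | add a b ha hb => simp only [map_add, ha, hb]
  have hql : ∀ g ∈ k ∙ l, q g = 0 := fun g hg => by
    obtain ⟨t, rfl⟩ := Submodule.mem_span_singleton.1 hg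
    rw [map_smul, (hq l).2 dvd_rfl, smul_zero]
  have hFG : F = G := by
    refine MvPolynomial.algHom_ext fun i => ?_
    obtain ⟨w, hw, c, hc, hwc⟩ := Submodule.mem_sup.1 (hspan (isHomogeneous_X k i))
    refine ext_slice fun φ' => ?_
    rw [hslice, show slice φ' (G (X i)) = φ' 1 • q (X i) from slice_tmul _ _ _]
    set φ₀ := φ' ∘ₗ (Ideal.Quotient.mkₐ k I).toLinearMap
    have hφ₀ : ∀ a ∈ I, φ₀ a = 0 := fun a ha => by simp [φ₀, Ideal.Quotient.eq_zero_iff_mem.2 ha]
    obtain ⟨t, ht⟩ := Submodule.mem_span_singleton.1 hc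
    have hc' : q (op φ₀ c) = 0 := by
      rw [← ht, map_smul, map_smul, show op φ₀ l = (op φ₀ l - φ₀ 1 • l) + φ₀ 1 • l from (sub_add_cancel _ _).symm,
        map_add, hql _ (hlop φ₀ hφ₀), map_smul, (hq l).2 dvd_rfl]
      simp
    rw [← hwc, map_add, (mem_quotInvariants_iff_op I w).1 hw.2 φ₀ hφ₀, map_add, map_add, hc', hql _ hc]
    simp [φ₀]
  let φI : A ⧸ I →ₗ[k] k := (I.restrictScalars k).liftQ φ hφ
  have hφI : φI ∘ₗ (Ideal.Quotient.mkₐ k I).toLinearMap = φ := rfl
  have h : slice φI (F f) = φI 1 • q f := by rw [hFG]; exact slice_tmul _ _ _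
  rw [hslice, hφI] at h
  rw [← hq, map_sub, map_smul, sub_eq_zero]
  exact h

variable (k A ι) in
/-- the ideal of the invariants without constant term -/
def invIdeal : Ideal (MvPolynomial ι k) :=
  Ideal.span {h | h ∈ GLin.invariants k A (MvPolynomial ι k) ∧ constantCoeff h = 0}

theorem op_mem_invIdeal (φ : A →ₗ[k] k) {f : MvPolynomial ι k} (hf : f ∈ invIdeal k A ι) :
    op φ f ∈ invIdeal k A ι := by
  obtain ⟨m, c, g, rfl⟩ := Submodule.mem_span_set'.1 hf
  rw [map_sum]
  refine sum_mem fun i _ => ?_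
  rw [smul_eq_mul, op_mul_invariant (g i).2.1]
  exact Ideal.mul_mem_left _ _ (Ideal.subset_span (g i).2)

theorem isSubcomod_invIdeal :
    HopfRep.IsSubcomod (k := k) (A := A) ((invIdeal k A ι).restrictScalars k) :=
  (isSubcomod_iff _).2 fun φ _ hf => op_mem_invIdeal φ hf

variable (hG : HopfRep.IsLinearlyReductive k A)
  (hsub : ∀ (I : Ideal A) [I.IsHopfIdeal k], HopfRep.IsLinearlyReductive k (A ⧸ I))
  (hlin : GLin.IsLinear k A ι) (hgen : GLin.IsGenByPseudoRefl k A ι)

include hG hgen in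
/-- a class modulo the invariant ideal fixed by all pseudo-reflections comes from an invariant -/
theorem exists_invariant_sub_mem {f : MvPolynomial ι k}
    (hf : ∀ I : Ideal A, GLin.IsPseudoRefl k A ι I → ∀ φ : A →ₗ[k] k, (∀ a ∈ I, φ a = 0) →
      op φ f - φ 1 • f ∈ invIdeal k A ι) :
    ∃ g ∈ GLin.invariants k A (MvPolynomial ι k), f - g ∈ invIdeal k A ι := by
  let U := (invIdeal k A ι).restrictScalars k
  let cQ : HopfRep.Comod k A (MvPolynomial ι k ⧸ U) := ComodSub.Comod.quot inferInstance U isSubcomod_invIdeal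
  have hπ : Hoch.IsComodHom A U.mkQ := ComodSub.isComodHom_mkQ _ U isSubcomod_invIdeal
  have hfixI : ∀ I : Ideal A, GLin.IsPseudoRefl k A ι I → stabVec k A (U.mkQ f) ≤ I := fun I hI => by
    rw [← mem_quotInvariants_iff_stabVec_le, mem_quotInvariants_iff_op]
    intro φ hφ
    rw [← isComodHom_op hπ, ← map_smul, ← sub_eq_zero, ← map_sub, Submodule.mkQ_apply,
      Submodule.Quotient.mk_eq_zero]
    exact hf I hI φ hφ
  have h0 : stabVec k A (U.mkQ f) = ⊥ :=
    le_bot_iff.1 ((le_sSup (show stabVec k A (U.mkQ f) ∈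
      {J : Ideal A | J.IsHopfIdeal k ∧ ∀ I : Ideal A, GLin.IsPseudoRefl k A ι I → J ≤ I} from
        ⟨isHopfIdeal_stabVec _, hfixI⟩)).trans hgen.le)
  have hfix : U.mkQ f ∈ HopfRep.fixedPts k A (MvPolynomial ι k ⧸ U) := by
    refine GitQuot.mem_fixedPts_iff_op.2 fun φ => ?_
    exact (mem_quotInvariants_iff_op (⊥ : Ideal A) _).1 ((mem_quotInvariants_iff_stabVec_le _ _).2 h0.le) φ
      fun a ha => by rw [(Submodule.mem_bot A).1 ha, map_zero]
  obtain ⟨g, hg, hgf⟩ := GitQuot.exists_fixedPts_map_eq hG hπ U.mkQ_surjective hfix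
  exact ⟨g, hg, (Submodule.Quotient.eq U).1 hgf.symm⟩

include hG hsub hlin hgen in
/-- Chevalley's lemma -/
theorem chevalley {σ : Type*} [DecidableEq σ] (t : Finset σ) (s : σ → MvPolynomial ι k)
    (hs : ∀ i ∈ t, s i ∈ GLin.invariants k A (MvPolynomial ι k)) {i₀ : σ} (hi₀ : i₀ ∈ t)
    (hnot : ¬ ∃ v : σ → MvPolynomial ι k, (∀ i, v i ∈ GLin.invariants k A (MvPolynomial ι k)) ∧
      s i₀ = ∑ i ∈ t.erase i₀, v i * s i) :
    ∀ (d : ℕ) (p : σ → MvPolynomial ι k), (p i₀).IsHomogeneous d → ∑ i ∈ t, p i * s i = 0 →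
      p i₀ ∈ invIdeal k A ι := by
  intro d
  induction d with
  | zero =>
    intro p hp hsum
    obtain ⟨c, hc⟩ : ∃ c, p i₀ = C c :=
      ⟨_, (totalDegree_eq_zero_iff_eq_C).1 ((totalDegree_zero_iff_isHomogeneous ι).2 hp)⟩
    by_cases hc0 : c = 0
    · rw [hc, hc0, map_zero]; exact zero_mem _
    obtain ⟨E, hE⟩ := GitQuot.exists_reynolds (V := MvPolynomial ι k) (A := A) hG
    refine absurd ⟨fun i => -(C c⁻¹ * E (p i)), fun i => neg_mem (mul_mem
      ((GLin.invariants k A (MvPolynomial ι k)).algebraMap_mem _) (hE.apply_mem _)), ?_⟩ hnot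
    rw [← Finset.add_sum_erase _ _ hi₀] at hsum
    have h := congrArg E hsum
    rw [map_add, map_zero, map_sum, Finset.sum_congr rfl fun i hi =>
      hE.map_mul coact_mul' hG (p i) (hs i (Finset.mem_of_mem_erase hi)), hc,
      ← MvPolynomial.smul_eq_C_mul, map_smul, (hE.fixed _).2 (hs i₀ hi₀), MvPolynomial.smul_eq_C_mul] at h
    have h2 : C c⁻¹ * (C c * s i₀ + ∑ i ∈ t.erase i₀, E (p i) * s i) = 0 := by rw [h, mul_zero]
    rw [mul_add, ← mul_assoc, ← map_mul, inv_mul_cancel₀ hc0, map_one, one_mul, Finset.mul_sum] at h2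
    rw [eq_neg_of_add_eq_zero_left h2, ← Finset.sum_neg_distrib]
    exact Finset.sum_congr rfl fun i _ => by ring
  | succ d ih =>
    intro p hp hsum
    obtain ⟨g, hg, hgp⟩ := exists_invariant_sub_mem hG hgen (f := p i₀) (fun I hI φ hφ => by
      obtain ⟨l, hl0, hl1, hl⟩ := exists_divisor hlin hsub hI
      choose q hq using fun i => hl φ hφ (p i)
      have hsum' : ∑ i ∈ t, q i * s i = 0 := by
        refine (mul_eq_zero.1 ?_).resolve_left hl0
        rw [Finset.mul_sum]
        have h1 : ∀ i ∈ t, l * (q i * s i) = op φ (p i * s i) - φ 1 • (p i * s i) := fun i hi => by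
          rw [← mul_assoc, ← hq, sub_mul, op_mul_invariant (hs i hi), smul_mul_assoc]
        rw [Finset.sum_congr rfl h1, Finset.sum_sub_distrib, ← map_sum, ← Finset.smul_sum, hsum, map_zero,
          smul_zero, sub_zero]
      have hΔ : (l * q i₀).IsHomogeneous (d + 1) := by
        rw [← hq]
        exact (isHomogeneous_op hlin φ hp).sub (Submodule.smul_mem (homogeneousSubmodule ι k (d + 1)) _ hp)
      have hqd : (q i₀).IsHomogeneous d := by
        have h1 : l * homogeneousComponent d (q i₀) = l * q i₀ := by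
          rw [← component_mul_add hl1, show 1 + d = d + 1 from add_comm 1 d, homogeneousComponent_of_mem hΔ, if_pos rfl]
        rw [← mul_left_cancel₀ hl0 h1]
        exact homogeneousComponent_isHomogeneous d _
      rw [hq]
      exact Ideal.mul_mem_left _ _ (ih q hqd hsum'))
    obtain ⟨m, c, w, hw⟩ := Submodule.mem_span_set'.1 hgp
    -- compare components of degree `d + 1`
    have h1 : homogeneousComponent (d + 1) g ∈ invIdeal k A ι :=
      Ideal.subset_span ⟨component_mem_invariants hlin hg (d + 1), by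
        rw [constantCoeff_eq, coeff_homogeneousComponent, if_neg (by simp)]⟩
    have h2 : p i₀ - homogeneousComponent (d + 1) g = homogeneousComponent (d + 1) (p i₀ - g) := by
      rw [map_sub, homogeneousComponent_of_mem hp, if_pos rfl]
    have h3 : homogeneousComponent (d + 1) (p i₀ - g) ∈ invIdeal k A ι := by
      rw [← hw, map_sum]
      refine sum_mem fun j _ => ?_
      rw [smul_eq_mul, ← sum_homogeneousComponent (w j).1, Finset.mul_sum, map_sum]
      refine sum_mem fun e _ => ?_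
      rw [mul_comm, component_mul (homogeneousComponent_isHomogeneous e _)]
      split_ifs with he
      · refine Ideal.mul_mem_right _ _ ?_
        rcases Nat.eq_zero_or_pos e with rfl | hpos
        · have h0 : MvPolynomial.coeff (0 : ι →₀ ℕ) (w j).1 = 0 := (w j).2.2
          rw [homogeneousComponent_zero, h0, map_zero]
          exact zero_mem _
        · exact Ideal.subset_span ⟨component_mem_invariants hlin (w j).2.1 e, by
            show (MvPolynomial.coeff (0 : ι →₀ ℕ) (homogeneousComponent e (w j).1) : k) = 0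
            rw [coeff_homogeneousComponent, if_neg (by simp; omega)]⟩
      · exact zero_mem _
    rw [show p i₀ = (p i₀ - homogeneousComponent (d + 1) g) + homogeneousComponent (d + 1) g from
      (sub_add_cancel _ _).symm, h2]
    exact add_mem h3 h1

end Groth.ComodLib.CST
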