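import Groth.Agent.Hopf.CST.Chevalley
import Groth.Agent.InvTheory.FiniteGroupScheme
import Mathlib.RingTheory.Flat.Basic

/-!
# Polynomials are free over the invariants
-/

set_option autoImplicit false
set_option linter.unusedSectionVars false

universe u

open MvPolynomial TensorProduct

noncomputable section

namespace Groth.ComodLib.CST

variable {k : Type u} [Field k] {A : Type u} [CommRing A] [HopfAlgebra k A] {ι : Type u} [Fintype ι]
  [HopfRep.Comod k A (MvPolynomial ι k)] [GLin.IsCoactAlg k A (MvPolynomial ι k)]

theorem component_mem_span_homogeneous (hlin : GLin.IsLinear k A ι) {f : MvPolynomial ι k}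
    (hf : f ∈ invIdeal k A ι) (n : ℕ) :
    ∃ (m : ℕ) (r h : Fin m → MvPolynomial ι k), homogeneousComponent n f = ∑ j, r j * h j ∧
      ∀ j, (h j ∈ GLin.invariants k A (MvPolynomial ι k) ∧ constantCoeff (h j) = 0) ∧
        (r j = 0 ∨ ∃ a, 0 < a ∧ a ≤ n ∧ (h j).IsHomogeneous a ∧ (r j).IsHomogeneous (n - a)) := by
  classical
  obtain ⟨m, c, w, rfl⟩ := Submodule.mem_span_set'.1 hf
  let T := Σ j : Fin m, Fin ((w j).1.totalDegree + 1)
  have hterm : ∀ (x : T), constantCoeff (homogeneousComponent (x.2 : ℕ) (w x.1).1) = 0 := by
    intro x
    show (MvPolynomial.coeff (0 : ι →₀ ℕ) (homogeneousComponent (x.2 : ℕ) (w x.1).1) : k) = 0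
    rw [coeff_homogeneousComponent]
    split_ifs
    · exact (w x.1).2.2
    · rfl
  let rr : T → MvPolynomial ι k := fun x =>
    if 0 < (x.2 : ℕ) ∧ (x.2 : ℕ) ≤ n then homogeneousComponent (n - x.2) (c x.1) else 0
  let hh : T → MvPolynomial ι k := fun x => homogeneousComponent (x.2 : ℕ) (w x.1).1
  refine ⟨Fintype.card T, fun i => rr ((Fintype.equivFin T).symm i), fun i => hh ((Fintype.equivFin T).symm i), ?_,
    fun i => ⟨⟨component_mem_invariants hlin (w _).2.1 _, hterm _⟩, ?_⟩⟩
  · rw [Equiv.sum_comp (Fintype.equivFin T).symm (fun x => rr x * hh x), Fintype.sum_sigma, map_sum]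
    refine Finset.sum_congr rfl fun j _ => ?_
    rw [smul_eq_mul, mul_comm]
    conv_lhs => rw [← sum_homogeneousComponent (w j).1, Finset.sum_mul, map_sum, Finset.sum_range]
    refine Finset.sum_congr rfl fun e _ => ?_
    rw [component_mul (homogeneousComponent_isHomogeneous _ _)]
    rcases Nat.eq_zero_or_pos (e : ℕ) with h0 | hpos
    · have h1 : MvPolynomial.coeff (0 : ι →₀ ℕ) (w j).1 = 0 := (w j).2.2
      simp [rr, hh, h0, homogeneousComponent_zero, h1]
    · simp only [rr, hh, hpos, true_and]
      split_ifs <;> ring
  · generalize (Fintype.equivFin T).symm i = x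
    simp only [rr, hh]
    split_ifs with h
    · exact Or.inr ⟨_, h.1, h.2, homogeneousComponent_isHomogeneous _ _, homogeneousComponent_isHomogeneous _ _⟩
    · exact Or.inl rfl

variable (hG : HopfRep.IsLinearlyReductive k A)
  (hsub : ∀ (I : Ideal A) [I.IsHopfIdeal k], HopfRep.IsLinearlyReductive k (A ⧸ I))
  (hlin : GLin.IsLinear k A ι) (hgen : GLin.IsGenByPseudoRefl k A ι)

include hG hsub hlin hgen in
/-- homogeneous families independent modulo the invariant ideal are independent over the invariants -/
theorem independent {σ : Type*} [DecidableEq σ] :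
    ∀ (t : Finset σ) (e : σ → MvPolynomial ι k) (b a : σ → ℕ) (D : ℕ),
      (∀ i ∈ t, (e i).IsHomogeneous (b i)) → (∀ i ∈ t, a i + b i = D) →
      (∀ c : σ → k, ∑ i ∈ t, c i • e i ∈ invIdeal k A ι → ∀ i ∈ t, c i = 0) →
      ∀ s : σ → MvPolynomial ι k, (∀ i ∈ t, s i ∈ GLin.invariants k A (MvPolynomial ι k)) →
        (∀ i ∈ t, (s i).IsHomogeneous (a i)) → ∑ i ∈ t, e i * s i = 0 → ∀ i ∈ t, s i = 0 := by
  intro t
  induction t using Finset.strongInduction with
  | H t IH =>
    intro e b a D he hab hind s hs hsh hsum i hi
    by_cases hv : ∃ v : σ → MvPolynomial ι k, (∀ j, v j ∈ GLin.invariants k A (MvPolynomial ι k)) ∧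
        s i = ∑ j ∈ t.erase i, v j * s j
    · obtain ⟨v, hv, hvs⟩ := hv
      let v' : σ → MvPolynomial ι k := fun j => if a j ≤ a i then homogeneousComponent (a i - a j) (v j) else 0
      have hvs' : s i = ∑ j ∈ t.erase i, v' j * s j := by
        have h := congrArg (homogeneousComponent (a i)) hvs
        rw [homogeneousComponent_of_mem (hsh i hi), if_pos rfl, map_sum] at h
        rw [h]
        refine Finset.sum_congr rfl fun j hj => ?_
        rw [mul_comm (v j), component_mul (hsh j (Finset.mem_of_mem_erase hj))]
        simp only [v']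
        split_ifs <;> ring
      let e' : σ → MvPolynomial ι k := fun j => e j + v' j * e i
      have hzero : ∀ j ∈ t.erase i, s j = 0 := by
        refine IH _ (Finset.erase_ssubset hi) e' b a D ?_ (fun j hj => hab j (Finset.mem_of_mem_erase hj)) ?_ s
          (fun j hj => hs j (Finset.mem_of_mem_erase hj)) (fun j hj => hsh j (Finset.mem_of_mem_erase hj)) ?_
        · intro j hj
          have hj' := Finset.mem_of_mem_erase hj
          refine (he j hj').add ?_
          simp only [v']
          split_ifs with hle
          · have h1 := hab i hi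
            have h2 := hab j hj'
            have := (homogeneousComponent_isHomogeneous (a i - a j) (v j)).mul (he i hi)
            rwa [show a i - a j + b i = b j by omega] at this
          · rw [zero_mul]; exact isHomogeneous_zero _ _ _
        · intro c hc
          have hmem : ∀ j, v' j - C (constantCoeff (v' j)) ∈ invIdeal k A ι := fun j => by
            refine Ideal.subset_span ⟨sub_mem ?_ ((GLin.invariants k A (MvPolynomial ι k)).algebraMap_mem _), by simp⟩
            simp only [v']
            split_ifs
            · exact component_mem_invariants hlin (hv j) _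
            · exact zero_mem _
          let γ := ∑ j ∈ t.erase i, c j * constantCoeff (v' j)
          have h2 : ∑ j ∈ t, Function.update c i γ j • e j ∈ invIdeal k A ι := by
            rw [← Finset.add_sum_erase _ _ hi, Function.update_self,
              Finset.sum_congr rfl fun j hj => by rw [Function.update_of_ne (Finset.ne_of_mem_erase hj)]]
            have h3 : γ • e i + ∑ j ∈ t.erase i, c j • e j =
                ∑ j ∈ t.erase i, c j • e' j - ∑ j ∈ t.erase i, c j • ((v' j - C (constantCoeff (v' j))) * e i) := by
              rw [← Finset.sum_sub_distrib, Finset.sum_smul, ← Finset.sum_add_distrib]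
              refine Finset.sum_congr rfl fun j _ => ?_
              simp only [e', smul_eq_C_mul, map_mul]
              ring
            rw [h3]
            refine sub_mem hc (sum_mem fun j _ => ?_)
            exact Submodule.smul_of_tower_mem _ _ (Ideal.mul_mem_right _ _ (hmem j))
          intro j hj
          have := hind _ h2 j (Finset.mem_of_mem_erase hj)
          rwa [Function.update_of_ne (Finset.ne_of_mem_erase hj)] at this
        · rw [← hsum, ← Finset.add_sum_erase _ _ hi, hvs', Finset.mul_sum, ← Finset.sum_add_distrib]
          refine Finset.sum_congr rfl fun j _ => ?_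
          simp only [e']
          ring
      rw [hvs']
      exact Finset.sum_eq_zero fun j hj => by rw [hzero j hj, mul_zero]
    · exfalso
      have h := chevalley hG hsub hlin hgen t s hs hi hv (b i) e (he i hi) hsum
      have := hind (Pi.single i 1) (by
        rw [Finset.sum_eq_single i (fun j _ hj => by rw [Pi.single_eq_of_ne hj, zero_smul]) (fun h' => (h' hi).elim),
          Pi.single_eq_same, one_smul]
        exact h) i hi
      rw [Pi.single_eq_same] at this
      exact one_ne_zero this

variable (k A ι) in
/-- homogeneous representatives of a basis of the fibre -/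
theorem exists_homogeneous_basis : ∃ (σ : Type u) (e : σ → MvPolynomial ι k) (b : σ → ℕ),
    (∀ i, (e i).IsHomogeneous (b i)) ∧
      (∀ (t : Finset σ) (c : σ → k), ∑ i ∈ t, c i • e i ∈ invIdeal k A ι → ∀ i ∈ t, c i = 0) ∧
      ∀ f : MvPolynomial ι k, ∃ g ∈ Submodule.span k (Set.range e), f - g ∈ invIdeal k A ι := by
  classical
  let U := (invIdeal k A ι).restrictScalars k
  let S : Set (MvPolynomial ι k ⧸ U) := Set.range fun α : ι →₀ ℕ => U.mkQ (monomial α 1)
  obtain ⟨B, hBS, hBsp, hBli⟩ := exists_linearIndependent k S
  have hch : ∀ x : B, ∃ α : ι →₀ ℕ, U.mkQ (monomial α 1) = x.1 := fun x => hBS x.2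
  choose α hα using hch
  refine ⟨B, fun x => monomial (α x) 1, fun x => (α x).degree, fun x => isHomogeneous_monomial _ rfl, ?_, ?_⟩
  · intro t c hc
    refine linearIndependent_iff'.1 hBli t c ?_
    have : U.mkQ (∑ i ∈ t, c i • monomial (α i) 1) = 0 := (Submodule.Quotient.mk_eq_zero U).2 hc
    simpa [map_sum, map_smul, hα] using this
  · intro f
    have hr : Set.range (fun x : B => U.mkQ (monomial (α x) 1)) = B := by
      simp only [hα, Subtype.range_coe_subtype, Set.ofPred_mem_eq]
    have h : U.mkQ f ∈ Submodule.span k (Set.range fun x : B => U.mkQ (monomial (α x) 1)) := by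
      rw [hr, hBsp]
      induction f using MvPolynomial.induction_on' with
      | monomial a c =>
        rw [show monomial a c = c • monomial a 1 by simp [smul_monomial], map_smul]
        exact Submodule.smul_mem _ _ (Submodule.subset_span ⟨a, rfl⟩)
      | add p q hp hq => rw [map_add]; exact add_mem hp hq
    rw [show (Set.range fun x : B => U.mkQ (monomial (α x) 1)) =
      U.mkQ '' Set.range (fun x : B => monomial (α x) (1 : k)) from Set.range_comp U.mkQ _,
      Submodule.span_image] at h
    obtain ⟨g, hg, hgf⟩ := h
    exact ⟨g, hg, (Submodule.Quotient.eq U).1 hgf.symm⟩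

include hG hsub hlin hgen in
theorem free_over_invariants :
    Module.Free (GLin.invariants k A (MvPolynomial ι k)) (MvPolynomial ι k) := by
  classical
  obtain ⟨σ, e, b, he, hind, hsp⟩ := exists_homogeneous_basis k A ι
  let S := GLin.invariants k A (MvPolynomial ι k)
  have hspan : ⊤ ≤ Submodule.span S (Set.range e) := by
    suffices h : ∀ n, ∀ p : MvPolynomial ι k, p.IsHomogeneous n → p ∈ Submodule.span S (Set.range e) by
      intro p _
      rw [← sum_homogeneousComponent p]
      exact sum_mem fun n _ => h n _ (homogeneousComponent_isHomogeneous n p)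
    intro n
    induction n using Nat.strong_induction_on with
    | _ n IH =>
      intro p hp
      obtain ⟨g, hg, hgp⟩ := hsp p
      rw [show p = homogeneousComponent n g + homogeneousComponent n (p - g) by
        rw [← map_add, add_sub_cancel, homogeneousComponent_of_mem hp, if_pos rfl]]
      refine add_mem ?_ ?_
      · have h1 : Submodule.span k (Set.range e) ≤
            ((Submodule.span S (Set.range e)).restrictScalars k).comap (homogeneousComponent n) := by
          refine Submodule.span_le.2 ?_
          rintro _ ⟨i, rfl⟩
          rw [SetLike.mem_coe, Submodule.mem_comap, homogeneousComponent_of_mem (he i)]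
          split_ifs
          · exact Submodule.subset_span ⟨i, rfl⟩
          · exact zero_mem _
        exact h1 hg
      · obtain ⟨m, r, h, hrh, hh⟩ := component_mem_span_homogeneous hlin hgp n
        rw [hrh]
        refine sum_mem fun j _ => ?_
        obtain ⟨hj, hr0 | ⟨a, ha, han, -, hr⟩⟩ := hh j
        · rw [hr0, zero_mul]; exact zero_mem _
        · rw [mul_comm]
          exact Submodule.smul_mem _ (⟨h j, hj.1⟩ : S) (IH (n - a) (by omega) _ hr)
  have hli : LinearIndependent S e := by
    rw [linearIndependent_iff']
    intro t c hc i hi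
    have hzero : ∀ D, ∀ j ∈ t.filter (fun j => b j ≤ D), homogeneousComponent (D - b j) (c j).1 = 0 := by
      intro D
      refine independent hG hsub hlin hgen (t.filter fun j => b j ≤ D) e b (fun j => D - b j) D (fun j _ => he j)
        (fun j hj => by have := (Finset.mem_filter.1 hj).2; omega) (fun c' hc' => hind _ c' hc') _
        (fun j _ => component_mem_invariants hlin (c j).2 _) (fun j _ => homogeneousComponent_isHomogeneous _ _) ?_
      have h := congrArg (homogeneousComponent D) hc
      rw [map_sum, map_zero] at h
      rw [← h, Finset.sum_filter]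
      refine Finset.sum_congr rfl fun j _ => ?_
      rw [show c j • e j = e j * (c j).1 from mul_comm _ _, component_mul (he j)]
    refine Subtype.ext ?_
    rw [← sum_homogeneousComponent (c i).1]
    refine Finset.sum_eq_zero fun n _ => ?_
    have := hzero (b i + n) i (Finset.mem_filter.2 ⟨hi, by omega⟩)
    rwa [Nat.add_sub_cancel_left] at this
  exact Module.Free.of_basis (Module.Basis.mk hli hspan)

end Groth.ComodLib.CST
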