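import Groth.Agent.GitQuot.Reynolds
import Groth.Agent.Hopf.Coeff
import Groth.Prelude.Def_GLin
import Mathlib.RingTheory.MvPolynomial.Homogeneous

/-!
# Linear coactions on polynomial rings and the grading
-/

set_option autoImplicit false

universe u w

open MvPolynomial TensorProduct

noncomputable section

namespace Groth.ComodLib.CST

section Grading

variable {k : Type u} [CommRing k] {ι : Type w}

theorem component_mul_add {h : MvPolynomial ι k} {e : ℕ} (hh : h.IsHomogeneous e)
    (p : MvPolynomial ι k) (d : ℕ) :
    homogeneousComponent (e + d) (h * p) = h * homogeneousComponent d p := by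
  classical
  conv_lhs => rw [← sum_homogeneousComponent p, Finset.mul_sum, map_sum]
  simp_rw [homogeneousComponent_of_mem (hh.mul (homogeneousComponent_isHomogeneous _ _))]
  simp only [add_right_inj, Finset.sum_ite_eq, Finset.mem_range]
  split_ifs with hd
  · rfl
  · rw [homogeneousComponent_eq_zero d p (by omega), mul_zero]

theorem component_mul_lt {h : MvPolynomial ι k} {e : ℕ} (hh : h.IsHomogeneous e)
    (p : MvPolynomial ι k) {n : ℕ} (hn : n < e) :
    homogeneousComponent n (h * p) = 0 := by
  classical
  conv_lhs => rw [← sum_homogeneousComponent p, Finset.mul_sum, map_sum]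
  refine Finset.sum_eq_zero fun i _ => ?_
  rw [homogeneousComponent_of_mem (hh.mul (homogeneousComponent_isHomogeneous _ _)), if_neg (by omega)]

/-- the component of a product with a homogeneous factor -/
theorem component_mul {h : MvPolynomial ι k} {e : ℕ} (hh : h.IsHomogeneous e)
    (p : MvPolynomial ι k) (n : ℕ) :
    homogeneousComponent n (h * p) = if e ≤ n then h * homogeneousComponent (n - e) p else 0 := by
  split_ifs with hn
  · conv_lhs => rw [show n = e + (n - e) by omega]
    exact component_mul_add hh p _
  · exact component_mul_lt hh p (by omega)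

end Grading

variable {k : Type u} [Field k] {A : Type u} [CommRing A] [HopfAlgebra k A] {ι : Type u}
  [HopfRep.Comod k A (MvPolynomial ι k)] [GLin.IsCoactAlg k A (MvPolynomial ι k)]

theorem coact_mul' (f g : MvPolynomial ι k) :
    HopfRep.Comod.coact (k := k) (A := A) (f * g) =
      HopfRep.Comod.coact (k := k) (A := A) f * HopfRep.Comod.coact (k := k) (A := A) g :=
  GLin.IsCoactAlg.coact_mul f g

theorem coact_one' : HopfRep.Comod.coact (k := k) (A := A) (1 : MvPolynomial ι k) = 1 :=
  GLin.IsCoactAlg.coact_one (k := k) (A := A) (R := MvPolynomial ι k)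

theorem op_one' (φ : A →ₗ[k] k) : op φ (1 : MvPolynomial ι k) = φ 1 • 1 := by
  rw [op_apply, coact_one', Algebra.TensorProduct.one_def]
  simp [slice]

theorem op_mul_invariant {h : MvPolynomial ι k} (hh : h ∈ GLin.invariants k A (MvPolynomial ι k))
    (φ : A →ₗ[k] k) (p : MvPolynomial ι k) : op φ (p * h) = op φ p * h :=
  (isComodHom_op (GitQuot.isComodHom_mulRight (k := k) (A := A) coact_mul' hh) φ p).symm

theorem op_invariant {h : MvPolynomial ι k} (hh : h ∈ GLin.invariants k A (MvPolynomial ι k))
    (φ : A →ₗ[k] k) : op φ h = φ 1 • h :=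
  GitQuot.op_of_fixed hh φ

variable [Fintype ι] (hlin : GLin.IsLinear k A ι)

include hlin

theorem isSubcomod_linForms :
    HopfRep.IsSubcomod (k := k) (A := A) (homogeneousSubmodule ι k 1) := by
  rw [isSubcomod_iff]
  intro φ
  suffices h : homogeneousSubmodule ι k 1 ≤ (homogeneousSubmodule ι k 1).comap (op (V := MvPolynomial ι k) φ) from
    fun x hx => h hx
  conv_lhs => rw [homogeneousSubmodule_one_eq_span_X]
  refine Submodule.span_le.2 ?_
  rintro _ ⟨i, rfl⟩
  obtain ⟨m, hm⟩ := hlin i
  rw [SetLike.mem_coe, Submodule.mem_comap, op_apply, hm, map_sum]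
  refine sum_mem fun j _ => ?_
  rw [slice_tmul]
  exact Submodule.smul_mem _ _ (isHomogeneous_X k j)

theorem isSubcomod_homogeneous (n : ℕ) :
    HopfRep.IsSubcomod (k := k) (A := A) (homogeneousSubmodule ι k n) := by
  rw [← homogeneousSubmodule_one_pow]
  exact GitQuot.isSubcomod_one_pow coact_mul' coact_one' (isSubcomod_linForms hlin) n


theorem isHomogeneous_op (φ : A →ₗ[k] k) {p : MvPolynomial ι k} {n : ℕ} (hp : p.IsHomogeneous n) :
    (op φ p).IsHomogeneous n :=
  (isSubcomod_iff _).1 (isSubcomod_homogeneous hlin n) φ p hp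

theorem component_op (φ : A →ₗ[k] k) (p : MvPolynomial ι k) (n : ℕ) :
    homogeneousComponent n (op φ p) = op φ (homogeneousComponent n p) := by
  classical
  conv_lhs => rw [← sum_homogeneousComponent p, map_sum, map_sum]
  simp_rw [homogeneousComponent_of_mem (isHomogeneous_op hlin φ (homogeneousComponent_isHomogeneous _ p))]
  simp only [Finset.sum_ite_eq, Finset.mem_range]
  split_ifs with hn
  · rfl
  · rw [homogeneousComponent_eq_zero n p (by omega), map_zero]

theorem isComodHom_component (n : ℕ) :
    Hoch.IsComodHom A (homogeneousComponent n : MvPolynomial ι k →ₗ[k] MvPolynomial ι k) :=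
  (isComodHom_iff _).2 fun φ p => component_op hlin φ p n

theorem component_mem_invariants {h : MvPolynomial ι k}
    (hh : h ∈ GLin.invariants k A (MvPolynomial ι k)) (n : ℕ) :
    homogeneousComponent n h ∈ GLin.invariants k A (MvPolynomial ι k) :=
  GitQuot.map_mem_fixedPts (isComodHom_component hlin n) hh

theorem component_reynolds (hG : HopfRep.IsLinearlyReductive k A)
    {E : MvPolynomial ι k →ₗ[k] MvPolynomial ι k} (hE : GitQuot.IsReynolds A E)
    (p : MvPolynomial ι k) (n : ℕ) :
    homogeneousComponent n (E p) = E (homogeneousComponent n p) :=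
  (LinearMap.congr_fun (hE.natural hG hE (isComodHom_component hlin n)) p).symm

end Groth.ComodLib.CST
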