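import Groth.Agent.Hopf.CharFun
import Groth.Prelude.Def_GLin

/-!
# The linear coaction on a polynomial ring given by a comultiplicative matrix
-/

set_option autoImplicit false

universe u v w

open MvPolynomial TensorProduct

noncomputable section

namespace Groth.ComodLib.CST

variable {k : Type u} [CommRing k] {A : Type v} [CommRing A] [Bialgebra k A]
  {ι : Type w} [Fintype ι] [DecidableEq ι] (M : Matrix ι ι A)

/-- substitution of the variables by the columns of a matrix -/
def matCoact : MvPolynomial ι k →ₐ[k] MvPolynomial ι k ⊗[k] A :=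
  MvPolynomial.aeval fun i => ∑ j, (X j : MvPolynomial ι k) ⊗ₜ[k] M j i

omit [DecidableEq ι] in
theorem matCoact_X (i : ι) : matCoact (k := k) M (X i) = ∑ j, (X j : MvPolynomial ι k) ⊗ₜ[k] M j i :=
  aeval_X _ i

/-- the comodule structure -/
@[reducible] def matComod (h : IsComultMat k M) : HopfRep.Comod k A (MvPolynomial ι k) where
  coact := (matCoact (k := k) M).toLinearMap
  coassoc := by
    obtain ⟨h1, -⟩ := (isComultMat_iff M).1 h
    have e : ((Algebra.TensorProduct.assoc k k k (MvPolynomial ι k) A A).toAlgHom.comp
          ((Algebra.TensorProduct.map (matCoact (k := k) M) (AlgHom.id k A)).comp (matCoact (k := k) M))) =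
        (Algebra.TensorProduct.map (AlgHom.id k (MvPolynomial ι k)) (Bialgebra.comulAlgHom k A)).comp (matCoact (k := k) M) := by
      refine MvPolynomial.algHom_ext fun i => ?_
      simp only [AlgHom.comp_apply, matCoact_X, map_sum, Algebra.TensorProduct.map_tmul, AlgHom.id_apply,
        TensorProduct.sum_tmul, AlgEquiv.coe_toAlgHom, AlgHom.coe_coe, Algebra.TensorProduct.assoc_tmul,
        Bialgebra.comulAlgHom_apply, h1, TensorProduct.tmul_sum]
      exact Finset.sum_comm
    exact LinearMap.ext fun p => DFunLike.congr_fun e p
  counit_comp := by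
    obtain ⟨-, h2⟩ := (isComultMat_iff M).1 h
    have e : (Algebra.TensorProduct.map (AlgHom.id k (MvPolynomial ι k)) (Bialgebra.counitAlgHom k A)).comp (matCoact (k := k) M) =
        Algebra.TensorProduct.includeLeft := by
      refine MvPolynomial.algHom_ext fun i => ?_
      simp only [AlgHom.comp_apply, matCoact_X, map_sum, Algebra.TensorProduct.map_tmul, AlgHom.id_apply,
        Bialgebra.counitAlgHom_apply, h2, Algebra.TensorProduct.includeLeft_apply]
      simp [TensorProduct.tmul_ite]
    exact LinearMap.ext fun p => DFunLike.congr_fun e p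

theorem isCoactAlg_matComod (h : IsComultMat k M) :
    @GLin.IsCoactAlg k _ A _ _ (MvPolynomial ι k) _ _ (matComod M h) := by
  letI := matComod M h
  exact ⟨map_one (matCoact (k := k) M), map_mul (matCoact (k := k) M)⟩

theorem isLinear_matComod (h : IsComultMat k M) :
    @GLin.IsLinear k _ A _ _ ι _ (matComod M h) := by
  letI := matComod M h
  exact fun i => ⟨fun j => M j i, matCoact_X M i⟩

end Groth.ComodLib.CST
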