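import Groth.Agent.Hopf.CST.Polynomial
import Groth.Agent.Hopf.CST.PolyComod
import Groth.Agent.S9408
import Mathlib.RingTheory.Nakayama

/-!
# Linearisation of an action at a fixed rational point
-/

set_option autoImplicit false
set_option linter.unusedSectionVars false

universe u

open MvPolynomial TensorProduct

noncomputable section

namespace Groth.ComodLib.CST

section Point

variable {k : Type u} [Field k] {R : Type u} [CommRing R] [Algebra k R] (x : R →ₐ[k] k)

instance isMaximal_ker_point : (RingHom.ker x).IsMaximal :=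
  RingHom.ker_isMaximal_of_surjective _ fun c => ⟨algebraMap k R c, x.commutes c⟩

theorem mul_sub_const_mem_sq {g : R} (hg : g ∈ RingHom.ker x) (r : R) :
    r * g - algebraMap k R (x r) * g ∈ RingHom.ker x ^ 2 := by
  rw [← sub_mul, pow_two]
  refine Ideal.mul_mem_mul ?_ hg
  simp [RingHom.mem_ker]

/-- generators of the maximal ideal of the local ring give generators of the cotangent space -/
theorem finrank_cotSpace_le [IsNoetherianRing R] :
    Module.finrank k (GLin.cotSpace k R x) ≤
      (IsLocalRing.maximalIdeal (Localization.AtPrime (RingHom.ker x))).spanFinrank := by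
  classical
  set m := RingHom.ker x
  have hfg : (IsLocalRing.maximalIdeal (Localization.AtPrime m)).FG := IsNoetherian.noetherian _
  have hfin := Submodule.FG.finite_generators hfg
  choose num den hnd using fun g : Localization.AtPrime m => IsLocalization.exists_mk'_eq m.primeCompl g
  let G := hfin.toFinset
  have hGspan : Ideal.span (G : Set (Localization.AtPrime m)) = IsLocalRing.maximalIdeal _ := by
    rw [hfin.coe_toFinset]; exact Submodule.span_generators _
  have hnum : ∀ g ∈ G, num g ∈ m := fun g hg => by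
    have h : g ∈ IsLocalRing.maximalIdeal _ := hGspan ▸ Ideal.subset_span hg
    rw [← hnd g] at h
    exact (IsLocalization.AtPrime.mk'_mem_maximal_iff (Localization.AtPrime m) m _ _).1 h
  let q := (Ideal.Quotient.mkₐ k (m ^ 2)).toLinearMap
  have key : ∀ g ∈ m, ∀ r : R, q (r * g) = x r • q g := fun g hg r => by
    rw [← map_smul, Algebra.smul_def]
    exact (Ideal.Quotient.mk_eq_mk_iff_sub_mem _ _).2 (mul_sub_const_mem_sq x hg r)
  have hle : GLin.cotSpace k R x ≤ Submodule.span k ↑(G.image fun g => q (num g)) := by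
    rintro _ ⟨f, hf, rfl⟩
    have h1 : algebraMap R (Localization.AtPrime m) f ∈
        (Ideal.span ((G.image num : Finset R) : Set R)).map (algebraMap R (Localization.AtPrime m)) := by
      have h2 : algebraMap R (Localization.AtPrime m) f ∈ IsLocalRing.maximalIdeal _ :=
        (IsLocalization.AtPrime.to_map_mem_maximal_iff (Localization.AtPrime m) m f).2 hf
      rw [← hGspan] at h2
      refine (Ideal.span_le.2 fun g hg => ?_) h2
      rw [SetLike.mem_coe, ← hnd g, IsLocalization.mk'_eq_mul_mk'_one]
      exact Ideal.mul_mem_right _ _ (Ideal.mem_map_of_mem _ (Ideal.subset_span (Finset.mem_coe.2 (Finset.mem_image_of_mem num hg))))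
    obtain ⟨u, hu, huf⟩ := (IsLocalization.algebraMap_mem_map_algebraMap_iff m.primeCompl _ _ _).1 h1
    have hc : x u ≠ 0 := fun h => hu h
    obtain ⟨r, -, hr⟩ := Submodule.mem_span_finset.1 huf
    have h3 : x u • q f ∈ Submodule.span k ↑(G.image fun g => q (num g)) := by
      rw [← key f hf u, ← hr, map_sum]
      refine sum_mem fun y hy => ?_
      obtain ⟨g, hg, rfl⟩ := Finset.mem_image.1 hy
      rw [smul_eq_mul, key _ (hnum g hg)]
      exact Submodule.smul_mem _ _ (Submodule.subset_span (Finset.mem_coe.2 (Finset.mem_image_of_mem _ hg)))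
    simpa [q, smul_smul, inv_mul_cancel₀ hc] using Submodule.smul_mem _ (x u)⁻¹ h3
  refine (Submodule.finrank_mono hle).trans ((finrank_span_finset_le_card _).trans
    (Finset.card_image_le.trans (le_of_eq ?_)))
  rw [← Set.ncard_eq_toFinset_card _ hfin, Submodule.FG.generators_ncard hfg]

theorem finite_cotSpace [IsNoetherianRing R] : Module.Finite k (GLin.cotSpace k R x) := by
  classical
  obtain ⟨s, hs⟩ := IsNoetherian.noetherian (RingHom.ker x)
  let q := (Ideal.Quotient.mkₐ k (RingHom.ker x ^ 2)).toLinearMap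
  refine Submodule.finiteDimensional_of_le (S₂ := Submodule.span k (↑(s.image q) : Set _)) ?_
  rintro _ ⟨f, hf, rfl⟩
  replace hf : f ∈ Submodule.span R (s : Set R) := hs.ge hf
  obtain ⟨r, -, rfl⟩ := Submodule.mem_span_finset.1 hf
  rw [map_sum]
  refine sum_mem fun g hg => ?_
  have h1 : (Ideal.Quotient.mkₐ k (RingHom.ker x ^ 2)).toLinearMap (r g • g) = x (r g) • q g := by
    rw [← map_smul, smul_eq_mul, Algebra.smul_def]
    exact (Ideal.Quotient.mk_eq_mk_iff_sub_mem _ _).2
      (mul_sub_const_mem_sq x (hs.le (Submodule.subset_span hg)) _)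
  rw [h1]
  exact Submodule.smul_mem _ _ (Submodule.subset_span (Finset.mem_coe.2 (Finset.mem_image_of_mem _ hg)))

end Point

variable {k : Type u} [Field k] {A : Type u} [CommRing A] [HopfAlgebra k A]
  {R : Type u} [CommRing R] [Algebra k R] [HopfRep.Comod k A R] [GLin.IsCoactAlg k A R]

theorem point_op {x : R →ₐ[k] k} (hx : GLin.IsFixedPt k A x) (φ : A →ₗ[k] k) (f : R) :
    x (op φ f) = φ 1 * x f := by
  have h1 : x (op φ f) = φ (cf (A := A) x.toLinearMap f) := (apply_cf φ x.toLinearMap f).symm
  have h2 : cf (A := A) x.toLinearMap f = GLin.orbitHom k A x f := by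
    change lslice _ (HopfRep.Comod.coact (k := k) (A := A) f) = TensorProduct.lid k A
      (Algebra.TensorProduct.map x (AlgHom.id k A) (HopfRep.Comod.coact (k := k) (A := A) f))
    generalize HopfRep.Comod.coact (k := k) (A := A) f = z
    induction z using TensorProduct.induction_on with
    | zero => simp
    | tmul a b => simp [lslice]
    | add a b ha hb => simp only [map_add, ha, hb]
  rw [h1, h2, show GLin.orbitHom k A x = (Algebra.ofId k A).comp x from hx, AlgHom.comp_apply,
    Algebra.ofId_apply, Algebra.algebraMap_eq_smul_one, map_smul, smul_eq_mul, mul_comm]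

theorem isSubcomod_pow {x : R →ₐ[k] k} (hx : GLin.IsFixedPt k A x) (N : ℕ) :
    HopfRep.IsSubcomod (k := k) (A := A) ((RingHom.ker x ^ N).restrictScalars k) := by
  have h1 : HopfRep.IsSubcomod (k := k) (A := A) ((RingHom.ker x).restrictScalars k) :=
    (isSubcomod_iff _).2 fun φ f hf => by
      rw [Submodule.restrictScalars_mem, RingHom.mem_ker] at hf ⊢
      rw [point_op hx, hf, mul_zero]
  induction N with
  | zero =>
    rw [pow_zero, Ideal.one_eq_top, Submodule.restrictScalars_top]
    exact isSubcomod_top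
  | succ N ih =>
    rw [pow_succ, Submodule.restrictScalars_mul]
    exact GitQuot.isSubcomod_mul GLin.IsCoactAlg.coact_mul ih h1

theorem mem_cotFixedLift_iff (x : R →ₐ[k] k) (I : Ideal A) (f : R) :
    f ∈ GLin.cotFixedLift k A R x I ↔
      ∀ φ : A →ₗ[k] k, (∀ a ∈ I, φ a = 0) → op φ f - φ 1 • f ∈ RingHom.ker x ^ 2 := by
  let q := (Ideal.Quotient.mkₐ k (RingHom.ker x ^ 2)).toLinearMap
  have hsl : ∀ φ' : A ⧸ I →ₗ[k] k, slice φ' (TensorProduct.map q (Ideal.Quotient.mkₐ k I).toLinearMap
      (HopfRep.Comod.coact (k := k) (A := A) f)) = q (op (φ' ∘ₗ (Ideal.Quotient.mkₐ k I).toLinearMap) f) := by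
    intro φ'
    rw [op_apply]
    generalize HopfRep.Comod.coact (k := k) (A := A) f = z
    induction z using TensorProduct.induction_on with
    | zero => simp
    | tmul a b => simp [slice]
    | add a b ha hb => simp only [map_add, ha, hb]
  constructor
  · intro h φ hφ
    let φI : A ⧸ I →ₗ[k] k := (I.restrictScalars k).liftQ φ hφ
    have hφI : φI ∘ₗ (Ideal.Quotient.mkₐ k I).toLinearMap = φ := rfl
    have h1 := congrArg (slice φI) (LinearMap.mem_eqLocus.1 h)
    simp only [LinearMap.comp_apply, LinearMap.flip_apply, TensorProduct.mk_apply, slice_tmul] at h1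
    rw [hsl, hφI, show φI 1 = φ 1 from rfl, ← map_smul] at h1
    exact (Ideal.Quotient.mk_eq_mk_iff_sub_mem _ _).1 h1
  · intro h
    refine LinearMap.mem_eqLocus.2 (ext_slice fun φ' => ?_)
    simp only [LinearMap.comp_apply, LinearMap.flip_apply, TensorProduct.mk_apply, slice_tmul]
    rw [hsl, ← map_smul]
    exact (Ideal.Quotient.mk_eq_mk_iff_sub_mem _ _).2
      (h (φ' ∘ₗ (Ideal.Quotient.mkₐ k I).toLinearMap) fun a ha => by simp [Ideal.Quotient.eq_zero_iff_mem.2 ha])

/-- the invariants at a fixed point with generating pseudo-reflections -/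
theorem isRegularLocalRing_invariants [Module.Finite k A] [Algebra.FiniteType k R] [Algebra.Smooth k R]
    (hG : HopfRep.IsLinearlyReductive k A)
    (hsub : ∀ (I : Ideal A) [I.IsHopfIdeal k], HopfRep.IsLinearlyReductive k (A ⧸ I))
    (x : R →ₐ[k] k) (hx : GLin.IsFixedPt k A x) (hgen : GLin.IsGenByPseudoReflAt k A R x)
    [(RingHom.ker (x.comp (GLin.invariants k A R).val)).IsPrime] :
    IsRegularLocalRing (Localization.AtPrime (RingHom.ker (x.comp (GLin.invariants k A R).val))) := by
  classical
  have : IsNoetherianRing R := Algebra.FiniteType.isNoetherianRing k R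
  let U1 := (RingHom.ker x).restrictScalars k
  let U2 := (RingHom.ker x ^ 2).restrictScalars k
  let q := (Ideal.Quotient.mkₐ k (RingHom.ker x ^ 2)).toLinearMap
  have hU2le : U2 ≤ U1 := fun f hf => Ideal.pow_le_self two_ne_zero hf
  obtain ⟨C₀, hC₀, hcompl⟩ := GitQuot.isSemisimpleComod (V := R) hG U2 (isSubcomod_pow hx 2)
  let C := C₀ ⊓ U1
  have hC : HopfRep.IsSubcomod (k := k) (A := A) C :=
    isSubcomod_inf hC₀ (by simpa using isSubcomod_pow hx 1)
  have hq0 : ∀ f : R, q f = 0 ↔ f ∈ RingHom.ker x ^ 2 := fun f => Ideal.Quotient.eq_zero_iff_mem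
  have hinjC : ∀ f ∈ C, q f = 0 → f = 0 := fun f hf h =>
    Submodule.disjoint_def.1 hcompl.symm.disjoint f hf.1 ((hq0 f).1 h)
  have hsum : ∀ f ∈ RingHom.ker x, ∃ c ∈ C, f - c ∈ RingHom.ker x ^ 2 := by
    intro f hf
    obtain ⟨a, ha, c, hc, rfl⟩ := Submodule.mem_sup.1 (hcompl.sup_eq_top ▸ Submodule.mem_top (x := f))
    refine ⟨c, ⟨hc, ?_⟩, by rw [add_sub_cancel_right]; exact ha⟩
    have h := Submodule.sub_mem U1 hf (hU2le ha)
    rwa [add_sub_cancel_left] at h
  have hqC : C.map q = GLin.cotSpace k R x := by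
    refine le_antisymm (Submodule.map_mono inf_le_right) ?_
    rintro _ ⟨f, hf, rfl⟩
    obtain ⟨c, hc, hfc⟩ := hsum f hf
    exact ⟨c, hc, ((Ideal.Quotient.mk_eq_mk_iff_sub_mem _ _).2 hfc).symm⟩
  have := finite_cotSpace x
  have hCfin : Module.Finite k C := by
    refine Module.Finite.of_injective ((q.comp C.subtype).codRestrict (GLin.cotSpace k R x) fun c => hqC.le ⟨c, c.2, rfl⟩) ?_
    intro c d e
    have e' : q c = q d := congrArg Subtype.val e
    refine Subtype.ext (sub_eq_zero.1 (hinjC _ (C.sub_mem c.2 d.2) ?_))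
    rw [map_sub, e', sub_self]
  let cC : HopfRep.Comod k A C := ComodSub.Comod.restr inferInstance C hC
  have hCsub : Hoch.IsComodHom A C.subtype := ComodSub.isComodHom_subtype _ C hC
  let n := Module.finrank k C
  let b := Module.finBasis k C
  let ι := ULift.{u} (Fin n)
  let M : Matrix ι ι A := Matrix.reindex Equiv.ulift.symm Equiv.ulift.symm (cfMat (A := A) b)
  have hM : IsComultMat k M :=
    ((isComultMat_iff _).2 ⟨comul_cfMat b, counit_cfMat b⟩).reindex _
  let cP : HopfRep.Comod k A (MvPolynomial ι k) := matComod M hM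
  have : GLin.IsCoactAlg k A (MvPolynomial ι k) := isCoactAlg_matComod M hM
  have hlin : GLin.IsLinear k A ι := isLinear_matComod M hM
  let β : ι → R := fun i => (b i.down : C).1
  have hβm : ∀ i, x (β i) = 0 := fun i => (b i.down).2.2
  let φ : MvPolynomial ι k →ₐ[k] R := MvPolynomial.aeval β
  have hφX : ∀ i, φ (X i) = β i := fun i => aeval_X β i
  have hφhom : Hoch.IsComodHom A φ.toLinearMap := by
    have e : (Algebra.TensorProduct.map φ (AlgHom.id k A)).comp (matCoact (k := k) M) =
        (GLin.coactAlgHom k A R).comp φ := by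
      refine MvPolynomial.algHom_ext fun i => ?_
      rw [AlgHom.comp_apply, AlgHom.comp_apply, matCoact_X, hφX, map_sum, GLin.coactAlgHom_apply]
      have h := LinearMap.congr_fun hCsub (b i.down)
      simp only [LinearMap.comp_apply, coact_basis b i.down, map_sum, LinearMap.rTensor_tmul] at h
      rw [show HopfRep.Comod.coact (k := k) (A := A) (β i) = _ from h]
      refine Fintype.sum_equiv Equiv.ulift _ _ fun j => ?_
      rw [Algebra.TensorProduct.map_tmul, hφX]
      rfl
    refine LinearMap.ext fun p => (DFunLike.congr_fun e p).symm.trans ?_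
    change Algebra.TensorProduct.map φ (AlgHom.id k A) (cP.coact p) = LinearMap.rTensor A φ.toLinearMap (cP.coact p)
    generalize cP.coact p = z
    induction z using TensorProduct.induction_on with
    | zero => simp
    | tmul a b => simp
    | add a b ha hb => simp only [map_add, ha, hb]
  have hxφ : ∀ p, x (φ p) = constantCoeff p := by
    intro p
    induction p using MvPolynomial.induction_on with
    | C c => simp [φ]
    | add p q hp hq => simp only [map_add, hp, hq]
    | mul_X p i hp => simp [hφX, hβm]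
  -- linear forms and the cotangent space
  let Φ : MvPolynomial ι k →ₗ[k] R ⧸ RingHom.ker x ^ 2 := q ∘ₗ φ.toLinearMap
  have hlinspan : GLin.linForms k ι = Submodule.span k (Set.range X) := homogeneousSubmodule_one_eq_span_X
  have hφC : (GLin.linForms k ι).map φ.toLinearMap = C := by
    rw [hlinspan, Submodule.map_span, ← Set.range_comp]
    have e : Set.range (φ.toLinearMap ∘ X) = C.subtype '' Set.range b := by
      ext f
      constructor
      · rintro ⟨i, rfl⟩; exact ⟨b i.down, ⟨_, rfl⟩, (hφX i).symm⟩
      · rintro ⟨_, ⟨i, rfl⟩, rfl⟩; exact ⟨⟨i⟩, hφX ⟨i⟩⟩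
    rw [e, Submodule.span_image, b.span_eq, Submodule.map_subtype_top]
  have hΦinj : ∀ L ∈ GLin.linForms k ι, Φ L = 0 → L = 0 := by
    intro L hL h
    have h1 : φ L = 0 := hinjC _ (hφC.le ⟨L, hL, rfl⟩) h
    rw [hlinspan] at hL
    obtain ⟨c, rfl⟩ := (Submodule.mem_span_range_iff_exists_fun k).1 hL
    have h2 : ∑ i : ι, c i • b i.down = 0 := by
      refine Subtype.ext ?_
      simp only [Submodule.coe_sum, Submodule.coe_smul, ZeroMemClass.coe_zero]
      simpa [map_sum, map_smul, hφX, β] using h1
    have h3 := Fintype.linearIndependent_iff.1 (b.linearIndependent.comp _ Equiv.ulift.injective) c h2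
    simp [h3]
  have hfix : ∀ I : Ideal A, GLin.cotFixed k A R x I =
      (GLin.linForms k ι ⊓ GLin.quotInvariants k A (MvPolynomial ι k) I).map Φ := by
    intro I
    refine le_antisymm ?_ ?_
    · rintro _ ⟨f, ⟨hf, hfix⟩, rfl⟩
      obtain ⟨c, hc, hfc⟩ := hsum f hf
      obtain ⟨L, hL, rfl⟩ := hφC.ge hc
      refine ⟨L, ⟨hL, (mem_quotInvariants_iff_op I L).2 fun ξ hξ => sub_eq_zero.1 (hΦinj _ (Submodule.sub_mem _
        (isHomogeneous_op hlin ξ hL) (Submodule.smul_mem _ _ hL)) ?_)⟩, ((Ideal.Quotient.mk_eq_mk_iff_sub_mem _ _).2 hfc).symm⟩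
      change q (φ.toLinearMap (op ξ L - ξ 1 • L)) = 0
      rw [map_sub, map_smul, isComodHom_op hφhom, hq0]
      have h2 : op ξ (f - φ.toLinearMap L) - ξ 1 • (f - φ.toLinearMap L) ∈ RingHom.ker x ^ 2 :=
        Submodule.sub_mem _ ((isSubcomod_iff _).1 (isSubcomod_pow hx 2) ξ _ hfc)
          (Submodule.smul_of_tower_mem _ _ hfc)
      have h3 := Submodule.sub_mem _ ((mem_cotFixedLift_iff x I f).1 hfix ξ hξ) h2
      convert h3 using 1
      rw [map_sub, smul_sub]
      abel
    · rintro _ ⟨L, ⟨hL, hLfix⟩, rfl⟩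
      refine ⟨φ.toLinearMap L, ⟨(hφC.le ⟨L, hL, rfl⟩).2, (mem_cotFixedLift_iff x I _).2 fun ξ hξ => ?_⟩, rfl⟩
      rw [← isComodHom_op hφhom, (mem_quotInvariants_iff_op I L).1 hLfix ξ hξ, map_smul, sub_self]
      exact zero_mem _
  have hrank : ∀ L' : Submodule k (MvPolynomial ι k), L' ≤ GLin.linForms k ι →
      Module.finrank k (L'.map Φ) = Module.finrank k L' := by
    intro L' hle
    rw [← LinearMap.range_domRestrict]
    refine LinearMap.finrank_range_of_inj ((injective_iff_map_eq_zero _).2 fun a h => ?_)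
    exact Subtype.ext (hΦinj a.1 (hle a.2) h)
  have hcot : GLin.cotSpace k R x = (GLin.linForms k ι).map Φ := by
    rw [Submodule.map_comp, hφC, hqC]
  have hrefl : ∀ I : Ideal A, GLin.IsPseudoRefl k A ι I ↔ GLin.IsPseudoReflAt k A R x I := fun I => by
    rw [GLin.IsPseudoRefl, GLin.IsPseudoReflAt, hfix, hcot, hrank _ inf_le_left, hrank _ le_rfl]
  have hgenP : GLin.IsGenByPseudoRefl k A ι := by
    unfold GLin.IsGenByPseudoRefl GLin.genIdeal
    simp only [hrefl]
    exact hgen
  obtain ⟨h, hh, hadj, -, hpow⟩ := exists_generators hG hsub hlin hgenP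
  -- the invariants of `R`
  let S := GLin.invariants k A R
  let nS : Ideal S := RingHom.ker (x.comp S.val)
  have : Algebra.IsIntegral S R := InvTheory.isIntegral_invariants
    (fun f g => GLin.IsCoactAlg.coact_mul f g) (GLin.IsCoactAlg.coact_one (k := k) (A := A) (R := R)) fun _ => Iff.rfl
  have : Algebra.FiniteType k S := InvTheory.finiteType_invariants
    (fun f g => GLin.IsCoactAlg.coact_mul f g) (GLin.IsCoactAlg.coact_one (k := k) (A := A) (R := R)) fun _ => Iff.rfl
  have : IsNoetherianRing S := Algebra.FiniteType.isNoetherianRing k S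
  let f : Fin (Fintype.card ι) → S := fun j => ⟨φ (h j), GitQuot.map_mem_fixedPts hφhom (hh j).1⟩
  have hfn : ∀ j, f j ∈ nS := fun j => (hxφ (h j)).trans (hh j).2
  let Jf : Ideal R := Ideal.span (Set.range fun j => (f j).1)
  let Rm := Localization.AtPrime (RingHom.ker x)
  let bI : Ideal R := Ideal.span (Set.range β)
  have hmax : IsLocalRing.maximalIdeal Rm ≤ bI.map (algebraMap R Rm) := by
    have hfg : (IsLocalRing.maximalIdeal Rm).FG := IsNoetherian.noetherian _
    refine Submodule.le_of_le_smul_of_le_jacobson_bot hfg (IsLocalRing.maximalIdeal_le_jacobson ⊥) ?_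
    rw [Ideal.smul_eq_mul, ← pow_two, ← Localization.AtPrime.map_eq_maximalIdeal, ← Ideal.map_pow, ← Ideal.map_sup]
    refine Ideal.map_mono fun g hg => ?_
    obtain ⟨c, hc, hgc⟩ := hsum g hg
    obtain ⟨L, hL, rfl⟩ := hφC.ge hc
    have hLb : φ L ∈ bI := by
      rw [hlinspan] at hL
      obtain ⟨c, rfl⟩ := (Submodule.mem_span_range_iff_exists_fun k).1 hL
      rw [map_sum]
      exact sum_mem fun i _ => by
        rw [map_smul, hφX]; exact Submodule.smul_of_tower_mem _ _ (Ideal.subset_span ⟨i, rfl⟩)
    exact Submodule.mem_sup.2 ⟨φ L, hLb, g - φ L, hgc, add_sub_cancel _ _⟩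
  obtain ⟨N, hN⟩ : ∃ N, IsLocalRing.maximalIdeal Rm ^ N ≤ Jf.map (algebraMap R Rm) := by
    refine Ideal.exists_pow_le_of_le_radical_of_fg ?_ (IsNoetherian.noetherian _)
    refine hmax.trans (Ideal.map_le_iff_le_comap.2 (Ideal.span_le.2 ?_))
    rintro _ ⟨i, rfl⟩
    obtain ⟨N, hN⟩ := hpow i
    refine ⟨N, ?_⟩
    rw [← map_pow, ← hφX, ← map_pow]
    refine Ideal.mem_map_of_mem _ ?_
    have h1 : Ideal.span (Set.range h) ≤ Jf.comap φ := Ideal.span_le.2 (Set.range_subset_iff.2 fun j =>
      Ideal.subset_span ⟨j, rfl⟩)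
    exact h1 hN
  obtain ⟨E, hE⟩ := GitQuot.exists_reynolds (V := R) (A := A) hG
  obtain ⟨EP, hEP⟩ := GitQuot.exists_reynolds (V := MvPolynomial ι k) (A := A) hG
  have hEx : ∀ g, x (E g) = x g := by
    intro g
    have h1 : g - E g ∈ LinearMap.ker E := by
      rw [LinearMap.mem_ker, map_sub, ← LinearMap.comp_apply, hE.idem, sub_self]
    have htriv : (RingHom.ker x).restrictScalars k ≤ (RingHom.ker x).restrictScalars k := le_rfl
    have hmem : x (g - algebraMap k R (x g)) = 0 := by simp
    have h2 := hE.apply_mem_of_mem hG (show HopfRep.IsSubcomod (k := k) (A := A) U1 by simpa using isSubcomod_pow hx 1)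
      (show g - algebraMap k R (x g) ∈ U1 from hmem)
    have h3 : E (algebraMap k R (x g)) = algebraMap k R (x g) :=
      (hE.fixed _).2 (S.algebraMap_mem _)
    rw [map_sub, h3] at h2
    have h4 : x (E g - algebraMap k R (x g)) = 0 := h2
    simpa [sub_eq_zero] using h4
  have hpoly : ∀ (N : ℕ) (g : R), ∃ p, g - φ p ∈ RingHom.ker x ^ N := by
    intro N
    induction N with
    | zero => intro g; exact ⟨0, by simp⟩
    | succ N ih =>
      intro g
      obtain ⟨p, hp⟩ := ih g
      have hm1 : RingHom.ker x ^ N ≤ bI ^ N ⊔ RingHom.ker x ^ (N + 1) := by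
        clear hp ih
        induction N with
        | zero => simp
        | succ M ihM =>
          rw [pow_succ]
          refine (Ideal.mul_mono ihM (fun g hg => ?_ : RingHom.ker x ≤ bI ⊔ RingHom.ker x ^ 2)).trans ?_
          · obtain ⟨c, hc, hgc⟩ := hsum g hg
            obtain ⟨L, hL, rfl⟩ := hφC.ge hc
            have hLb : φ L ∈ bI := by
              rw [hlinspan] at hL
              obtain ⟨c, rfl⟩ := (Submodule.mem_span_range_iff_exists_fun k).1 hL
              rw [map_sum]
              exact sum_mem fun i _ => by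
                rw [map_smul, hφX]; exact Submodule.smul_of_tower_mem _ _ (Ideal.subset_span ⟨i, rfl⟩)
            exact Submodule.mem_sup.2 ⟨φ L, hLb, g - φ L, hgc, add_sub_cancel _ _⟩
          · have hb : bI ≤ RingHom.ker x := Ideal.span_le.2 (Set.range_subset_iff.2 hβm)
            rw [Ideal.sup_mul, Ideal.mul_sup, Ideal.mul_sup, ← pow_succ]
            refine sup_le (sup_le le_sup_left (le_sup_of_le_right ?_)) (sup_le (le_sup_of_le_right ?_) (le_sup_of_le_right ?_))
            · refine (Ideal.mul_mono (Ideal.pow_right_mono hb _) le_rfl).trans ?_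
              rw [← pow_add]
            · refine (Ideal.mul_mono le_rfl hb).trans ?_
              rw [← pow_succ]
            · rw [← pow_add]; exact Ideal.pow_le_pow_right (by omega)
      obtain ⟨u, hu, v, hv, huv⟩ := Submodule.mem_sup.1 (hm1 hp)
      have hu' : ∀ z ∈ bI ^ N, ∃ p, z - φ p ∈ RingHom.ker x ^ (N + 1) := by
        intro z hz
        have hbI : bI = (Ideal.span (Set.range (X : ι → MvPolynomial ι k))).map φ := by
          rw [Ideal.map_span, ← Set.range_comp]
          exact congrArg Ideal.span (congrArg Set.range (funext fun i => (hφX i).symm))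
        rw [hbI, ← Ideal.map_pow] at hz
        induction hz using Submodule.span_induction with
        | mem y hy => obtain ⟨p, -, rfl⟩ := hy; exact ⟨p, by simp⟩
        | zero => exact ⟨0, by simp⟩
        | add a c _ _ ha hc =>
          obtain ⟨p₁, h₁⟩ := ha
          obtain ⟨p₂, h₂⟩ := hc
          exact ⟨p₁ + p₂, by rw [map_add, add_sub_add_comm]; exact add_mem h₁ h₂⟩
        | smul r a hmem ha =>
          obtain ⟨p₁, h₁⟩ := ha
          refine ⟨MvPolynomial.C (x r) * p₁, ?_⟩
          have hsplit : r • a - φ (MvPolynomial.C (x r) * p₁) =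
              (r - algebraMap k R (x r)) * a + algebraMap k R (x r) * (a - φ p₁) := by
            simp [φ, smul_eq_mul]; ring
          rw [hsplit]
          refine add_mem ?_ (Ideal.mul_mem_left _ _ h₁)
          rw [pow_succ']
          refine Ideal.mul_mem_mul (by simp [RingHom.mem_ker]) ?_
          have hb : bI ≤ RingHom.ker x := Ideal.span_le.2 (Set.range_subset_iff.2 hβm)
          refine Ideal.pow_right_mono hb N ?_
          rw [hbI, ← Ideal.map_pow]
          exact hmem
      obtain ⟨p', hp'⟩ := hu' u hu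
      refine ⟨p + p', ?_⟩
      rw [show g - φ (p + p') = (u - φ p') + v by rw [map_add, ← sub_sub, ← huv]; ring]
      exact add_mem hp' hv
  have hgenS : nS.map (algebraMap S (Localization.AtPrime nS)) ≤
      (Ideal.span (Set.range f)).map (algebraMap S (Localization.AtPrime nS)) := by
    refine Ideal.map_le_iff_le_comap.2 fun s hs => ?_
    obtain ⟨p, hp⟩ := hpoly (N + 1) s.1
    have hsubm : HopfRep.IsSubcomod (k := k) (A := A) ((RingHom.ker x ^ (N + 1)).restrictScalars k) :=
      isSubcomod_pow hx (N + 1)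
    have ht : E (s.1 - φ p) ∈ RingHom.ker x ^ (N + 1) := hE.apply_mem_of_mem hG hsubm hp
    have hnat : E (φ p) = φ (EP p) := LinearMap.congr_fun (hEP.natural hG hE hφhom) p
    rw [map_sub, (hE.fixed _).2 s.2, hnat] at ht
    have hEPp : EP p ∈ GLin.invariants k A (MvPolynomial ι k) := hEP.apply_mem p
    -- the polynomial part
    have hs1 : (⟨φ (EP p), GitQuot.map_mem_fixedPts hφhom hEPp⟩ : S) ∈ Ideal.span (Set.range f) := by
      have hc : constantCoeff (EP p) = 0 := by
        have h1 : x (s.1 - φ (EP p)) = 0 := Ideal.pow_le_self (by omega) ht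
        rw [map_sub, show x s.1 = 0 from hs, zero_sub, neg_eq_zero, hxφ] at h1
        exact h1
      have hmem : EP p ∈ Algebra.adjoin k (Set.range h) := hadj ▸ hEPp
      rw [Algebra.adjoin_range_eq_range_aeval] at hmem
      obtain ⟨r, hr⟩ := hmem
      let ψ : MvPolynomial (Fin (Fintype.card ι)) k →ₐ[k] S := MvPolynomial.aeval f
      have hψ : ∀ r, (ψ r).1 = φ (MvPolynomial.aeval h r) := fun r => by
        change S.val (ψ r) = φ (MvPolynomial.aeval h r)
        exact DFunLike.congr_fun (MvPolynomial.algHom_ext (f := S.val.comp ψ) (g := φ.comp (MvPolynomial.aeval h))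
          fun j => by simp [ψ, f]) r
      rw [show (⟨φ (EP p), GitQuot.map_mem_fixedPts hφhom hEPp⟩ : S) = ψ r from Subtype.ext (by rw [hψ]; exact congrArg φ hr.symm)]
      have hr0 : constantCoeff r = 0 := by
        have hc' : constantCoeff (MvPolynomial.aeval h r) = constantCoeff r := by
          clear hr
          induction r using MvPolynomial.induction_on with
          | C c => simp
          | add p q hp hq => simp only [map_add, hp, hq]
          | mul_X p j hp => simp [(hh j).2]
        rw [← hc', show MvPolynomial.aeval h r = EP p from hr, hc]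
      have h2 : ∀ r : MvPolynomial (Fin (Fintype.card ι)) k,
          ψ r - algebraMap k S (constantCoeff r) ∈ Ideal.span (Set.range f) := by
        intro r
        induction r using MvPolynomial.induction_on with
        | C c => simp [ψ]
        | add p q hp hq => rw [map_add, map_add, map_add, add_sub_add_comm]; exact add_mem hp hq
        | mul_X p j hp =>
          simp only [ψ, map_mul, aeval_X, constantCoeff_X, mul_zero, map_zero, sub_zero]
          exact Ideal.mul_mem_left _ _ (Ideal.subset_span (Set.mem_range_self j))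
      simpa [hr0] using h2 r
    let t : S := s - ⟨φ (EP p), GitQuot.map_mem_fixedPts hφhom hEPp⟩
    have ht2 : algebraMap R Rm t.1 ∈ Jf.map (algebraMap R Rm) := by
      refine hN (Ideal.pow_le_pow_right (Nat.le_succ N) ?_)
      rw [← Localization.AtPrime.map_eq_maximalIdeal, ← Ideal.map_pow]
      exact Ideal.mem_map_of_mem _ ht
    obtain ⟨u, hu, hut⟩ := (IsLocalization.algebraMap_mem_map_algebraMap_iff (RingHom.ker x).primeCompl _ _ _).1 ht2
    have hEu : (⟨E u, hE.apply_mem u⟩ : S) ∈ nS.primeCompl := by
      intro hmem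
      have : x (E u) = 0 := hmem
      rw [hEx] at this
      exact hu this
    obtain ⟨c, hc⟩ := (Submodule.mem_span_range_iff_exists_fun R).1 hut
    have hEt : (⟨E u, hE.apply_mem u⟩ : S) * t ∈ Ideal.span (Set.range f) := by
      have e : E u * t.1 = ∑ j, E (c j) * (f j).1 := by
        rw [← hE.map_mul (fun f g => GLin.IsCoactAlg.coact_mul f g) hG u t.2, ← hc, map_sum]
        exact Finset.sum_congr rfl fun j _ => hE.map_mul (fun f g => GLin.IsCoactAlg.coact_mul f g) hG _ (f j).2
      rw [show (⟨E u, hE.apply_mem u⟩ : S) * t = ∑ j, (⟨E (c j), hE.apply_mem _⟩ : S) * f j from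
        Subtype.ext (by rw [AddSubmonoidClass.coe_finsetSum]; exact e)]
      exact sum_mem fun j _ => Ideal.mul_mem_left _ _ (Ideal.subset_span ⟨j, rfl⟩)
    have hts : algebraMap S (Localization.AtPrime nS) t ∈ (Ideal.span (Set.range f)).map (algebraMap S _) :=
      (IsLocalization.algebraMap_mem_map_algebraMap_iff nS.primeCompl _ _ _).2 ⟨_, hEu, hEt⟩
    rw [Ideal.mem_comap, show s = t + ⟨φ (EP p), GitQuot.map_mem_fixedPts hφhom hEPp⟩ from (sub_add_cancel _ _).symm,
      map_add]
    exact add_mem hts (Ideal.mem_map_of_mem _ hs1)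
  -- dimensions
  have hregR : IsRegularLocalRing Rm := by
    have : IsRegularRing R := Groth.Agent.S9408.isRegularRing_of_smooth k R
    exact (isRegularRing_iff.1 this) (RingHom.ker x)
  have hdim : (Fintype.card ι : WithBot ℕ∞) ≤ ringKrullDim (Localization.AtPrime nS) := by
    have hnS : nS = (RingHom.ker x).comap (algebraMap S R) := rfl
    have h1 : nS.height = (RingHom.ker x).height := by
      rw [hnS]
      exact InvTheory.height_comap_invariants (fun f g => GLin.IsCoactAlg.coact_mul f g)
        (GLin.IsCoactAlg.coact_one (k := k) (A := A) (R := R)) (fun _ => Iff.rfl) _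
    rw [IsLocalization.AtPrime.ringKrullDim_eq_height nS (Localization.AtPrime nS), h1,
      ← IsLocalization.AtPrime.ringKrullDim_eq_height (RingHom.ker x) Rm, ← (isRegularLocalRing_iff _).1 hregR]
    have h2 : Fintype.card ι ≤ (IsLocalRing.maximalIdeal Rm).spanFinrank := by
      refine le_trans (le_of_eq ?_) (finrank_cotSpace_le x)
      rw [hcot, hrank _ le_rfl]
      have h3 : Module.finrank k (GLin.linForms k ι) = Fintype.card ι := by
        rw [hlinspan]
        exact finrank_span_eq_card (MvPolynomial.linearIndependent_X ι k)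
      exact h3.symm
    exact_mod_cast h2
  refine IsRegularLocalRing.of_spanFinrank_maximalIdeal_le (R := Localization.AtPrime nS) (le_trans ?_ hdim)
  have heq : IsLocalRing.maximalIdeal (Localization.AtPrime nS) =
      Ideal.span (Set.range fun j => algebraMap S (Localization.AtPrime nS) (f j)) := by
    refine le_antisymm ?_ (Ideal.span_le.2 (Set.range_subset_iff.2 fun j =>
      (IsLocalization.AtPrime.to_map_mem_maximal_iff (Localization.AtPrime nS) nS _).2 (hfn j)))
    rw [← Localization.AtPrime.map_eq_maximalIdeal]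
    refine hgenS.trans ?_
    rw [Ideal.map_span, ← Set.range_comp]
    exact le_rfl
  rw [heq]
  have h4 := Submodule.spanFinrank_span_le_ncard_of_finite (R := Localization.AtPrime nS)
    (Set.finite_range fun j => algebraMap S (Localization.AtPrime nS) (f j))
  have h5 : (Set.range fun j => algebraMap S (Localization.AtPrime nS) (f j)).ncard ≤ Fintype.card ι := by
    rw [← Nat.card_coe_set_eq]
    exact (Finite.card_range_le _).trans (le_of_eq (Nat.card_fin _))
  exact_mod_cast h4.trans h5

end Groth.ComodLib.CST
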