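import Groth.Agent.Hopf.CST.Free
import Groth.Agent.Calg8.IntegralDimEq
import Groth.Agent.Ega4Algebra1.RegularDescent
import Mathlib.RingTheory.RegularLocalRing.Polynomial
import Mathlib.RingTheory.KrullDimension.NonZeroDivisors
import Mathlib.RingTheory.KrullDimension.Polynomial

/-!
# The invariants of a group generated by pseudo-reflections form a polynomial ring
-/

set_option autoImplicit false
set_option linter.unusedSectionVars false

universe u

open MvPolynomial TensorProduct

noncomputable section

namespace Groth.ComodLib.CST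

variable {k : Type u} [Field k] {A : Type u} [CommRing A] [HopfAlgebra k A] [Module.Finite k A]
  {ι : Type u} [Fintype ι]
  [HopfRep.Comod k A (MvPolynomial ι k)] [GLin.IsCoactAlg k A (MvPolynomial ι k)]
  (hG : HopfRep.IsLinearlyReductive k A)
  (hsub : ∀ (I : Ideal A) [I.IsHopfIdeal k], HopfRep.IsLinearlyReductive k (A ⧸ I))
  (hlin : GLin.IsLinear k A ι) (hgen : GLin.IsGenByPseudoRefl k A ι)

include hG hsub hlin hgen

/-- homogeneous generators of the invariants, at most as many as variables -/
theorem exists_homogeneous_span : ∃ (m : ℕ) (h : Fin m → MvPolynomial ι k) (a : Fin m → ℕ),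
    m ≤ Fintype.card ι ∧ (∀ j, h j ∈ GLin.invariants k A (MvPolynomial ι k) ∧ (h j).IsHomogeneous (a j) ∧ 0 < a j) ∧
      Algebra.adjoin k (Set.range h) = GLin.invariants k A (MvPolynomial ι k) := by
  classical
  let S := GLin.invariants k A (MvPolynomial ι k)
  have hfree : Module.Free S (MvPolynomial ι k) := free_over_invariants hG hsub hlin hgen
  have : Module.Flat S (MvPolynomial ι k) := Module.Flat.of_free
  have : Algebra.IsIntegral S (MvPolynomial ι k) :=
    InvTheory.isIntegral_invariants coact_mul' coact_one' fun _ => Iff.rfl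
  have : Algebra.FiniteType k S :=
    InvTheory.finiteType_invariants coact_mul' coact_one' fun _ => Iff.rfl
  have : IsNoetherianRing S := Algebra.FiniteType.isNoetherianRing k S
  let q : Ideal (MvPolynomial ι k) := RingHom.ker (constantCoeff : MvPolynomial ι k →+* k)
  have : q.IsMaximal := RingHom.ker_isMaximal_of_surjective _ fun c => ⟨C c, constantCoeff_C _ c⟩
  have : IsRegularLocalRing (Localization.AtPrime q) :=
    (isRegularRing_iff.1 (inferInstance : IsRegularRing (MvPolynomial ι k))) q
  let n₀ : Ideal S := q.comap (algebraMap S (MvPolynomial ι k))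
  have hreg : IsRegularLocalRing (Localization.AtPrime n₀) :=
    Ega4Algebra1.isRegularLocalRing_comap_of_flat S (MvPolynomial ι k) q
  -- the dimension is at most the number of variables
  have hdimS : ringKrullDim S = Fintype.card ι := by
    rw [← Calg8.ringKrullDim_eq_of_integral S (MvPolynomial ι k) Subtype.val_injective,
      MvPolynomial.ringKrullDim_of_isNoetherianRing, ringKrullDim_eq_zero_of_field, zero_add, Nat.card_eq_fintype_card]
  have hr : (IsLocalRing.maximalIdeal (Localization.AtPrime n₀)).spanFinrank ≤ Fintype.card ι := by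
    have h1 := (isRegularLocalRing_iff _).1 hreg
    have h2 : ringKrullDim (Localization.AtPrime n₀) ≤ ringKrullDim S := by
      rw [IsLocalization.AtPrime.ringKrullDim_eq_height n₀ (Localization.AtPrime n₀)]
      exact Ideal.height_le_ringKrullDim_of_ne_top (Ideal.IsPrime.ne_top inferInstance)
    rw [← h1, hdimS] at h2
    exact_mod_cast h2
  obtain ⟨G, hGcard, hGspan⟩ : ∃ G : Finset (Localization.AtPrime n₀),
      G.card ≤ Fintype.card ι ∧ Ideal.span (G : Set (Localization.AtPrime n₀)) = IsLocalRing.maximalIdeal _ := by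
    have hfg : (IsLocalRing.maximalIdeal (Localization.AtPrime n₀)).FG := IsNoetherian.noetherian _
    have hfin := Submodule.FG.finite_generators hfg
    refine ⟨hfin.toFinset, ?_, ?_⟩
    · rw [← Set.ncard_eq_toFinset_card _ hfin, Submodule.FG.generators_ncard hfg]
      exact hr
    · rw [hfin.coe_toFinset]
      exact Submodule.span_generators _
  choose num den hnd using fun g : Localization.AtPrime n₀ => IsLocalization.exists_mk'_eq n₀.primeCompl g
  have hnum : ∀ g ∈ G, num g ∈ n₀ := fun g hg => by
    have h : g ∈ IsLocalRing.maximalIdeal _ := hGspan ▸ Ideal.subset_span hg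
    rw [← hnd g] at h
    exact (IsLocalization.AtPrime.mk'_mem_maximal_iff (Localization.AtPrime n₀) n₀ _ _).1 h
  -- generation modulo squares
  let U : Submodule k S := (n₀ ^ 2).restrictScalars k
  let V := (n₀.restrictScalars k).map U.mkQ
  let T : Set (S ⧸ U) := {v | ∃ (h : S) (a : ℕ), 0 < a ∧ h.1.IsHomogeneous a ∧ U.mkQ h = v}
  have hmem0 : ∀ x : S, x ∈ n₀ ↔ constantCoeff x.1 = 0 := fun x => Iff.rfl
  have hV : V ≤ Submodule.span k ↑(G.image fun g => U.mkQ (num g)) := by
    rintro _ ⟨f, hf, rfl⟩
    have h1 : algebraMap S (Localization.AtPrime n₀) f ∈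
        (Ideal.span ((G.image num : Finset S) : Set S)).map (algebraMap S (Localization.AtPrime n₀)) := by
      have h2 : algebraMap S (Localization.AtPrime n₀) f ∈ IsLocalRing.maximalIdeal _ :=
        (IsLocalization.AtPrime.to_map_mem_maximal_iff (Localization.AtPrime n₀) n₀ f).2 hf
      rw [← hGspan] at h2
      refine (Ideal.span_le.2 fun g hg => ?_) h2
      rw [SetLike.mem_coe, ← hnd g, IsLocalization.mk'_eq_mul_mk'_one]
      exact Ideal.mul_mem_right _ _ (Ideal.mem_map_of_mem _ (Ideal.subset_span (Finset.mem_coe.2 (Finset.mem_image_of_mem num hg))))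
    obtain ⟨u, hu, huf⟩ := (IsLocalization.algebraMap_mem_map_algebraMap_iff n₀.primeCompl _ _ _).1 h1
    let c := constantCoeff u.1
    have hc : c ≠ 0 := fun h => hu h
    obtain ⟨r, hr'⟩ : ∃ r : S → S, ∑ x ∈ G.image num, r x • x = u * f := by
      obtain ⟨r, -, hr'⟩ := Submodule.mem_span_finset.1 huf
      exact ⟨r, hr'⟩
    have key : ∀ s g : S, g ∈ n₀ → U.mkQ (s * g) = constantCoeff s.1 • U.mkQ g := by
      intro s g hg
      rw [← map_smul, Submodule.mkQ_apply, Submodule.mkQ_apply, Submodule.Quotient.eq, Submodule.restrictScalars_mem,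
        Algebra.smul_def, ← sub_mul, pow_two]
      refine Ideal.mul_mem_mul ?_ hg
      rw [hmem0]
      show constantCoeff (s.1 - C (constantCoeff s.1)) = 0
      simp
    have h3 : c • U.mkQ f ∈ Submodule.span k ↑(G.image fun g => U.mkQ (num g)) := by
      rw [← key u f hf, ← hr', map_sum]
      refine sum_mem fun x hx => ?_
      obtain ⟨g, hg, rfl⟩ := Finset.mem_image.1 hx
      rw [smul_eq_mul, key _ _ (hnum g hg)]
      exact Submodule.smul_mem _ _ (Submodule.subset_span (Finset.mem_coe.2 (Finset.mem_image_of_mem _ hg)))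
    simpa [smul_smul, inv_mul_cancel₀ hc] using Submodule.smul_mem _ c⁻¹ h3
  have hcomp : ∀ (f : S) (e : ℕ), (⟨homogeneousComponent e f.1, component_mem_invariants hlin f.2 e⟩ : S) ∈ n₀ ∨ e = 0 := by
    intro f e
    rcases Nat.eq_zero_or_pos e with h | h
    · exact Or.inr h
    · left
      rw [hmem0]
      show (MvPolynomial.coeff (0 : ι →₀ ℕ) (homogeneousComponent e f.1) : k) = 0
      rw [coeff_homogeneousComponent, if_neg (by simp; omega)]
  have hT : V = Submodule.span k T := by
    refine le_antisymm ?_ (Submodule.span_le.2 ?_)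
    · rintro _ ⟨f, hf, rfl⟩
      have hsum : f = ∑ e ∈ Finset.range (f.1.totalDegree + 1),
          (⟨homogeneousComponent e f.1, component_mem_invariants hlin f.2 e⟩ : S) := by
        refine Subtype.ext ?_
        rw [AddSubmonoidClass.coe_finsetSum]
        exact (sum_homogeneousComponent f.1).symm
      rw [hsum, map_sum]
      refine sum_mem fun e _ => ?_
      rcases Nat.eq_zero_or_pos e with rfl | he
      · have h0 : (⟨homogeneousComponent 0 f.1, component_mem_invariants hlin f.2 0⟩ : S) = 0 := by
          refine Subtype.ext ?_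
          have h1 : MvPolynomial.coeff (0 : ι →₀ ℕ) f.1 = 0 := hf
          simp [homogeneousComponent_zero, h1]
        rw [h0, map_zero]; exact zero_mem _
      · exact Submodule.subset_span ⟨_, e, he, homogeneousComponent_isHomogeneous e f.1, rfl⟩
    · rintro _ ⟨h, a, ha, hh, rfl⟩
      refine ⟨h, ?_, rfl⟩
      rw [SetLike.mem_coe, Submodule.restrictScalars_mem, hmem0]
      show (MvPolynomial.coeff (0 : ι →₀ ℕ) h.1 : k) = 0
      exact hh.coeff_eq_zero (by simp; omega)
  have : Module.Finite k V := Submodule.finiteDimensional_of_le hV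
  have hVn : Module.finrank k V ≤ Fintype.card ι :=
    (Submodule.finrank_mono hV).trans ((finrank_span_finset_le_card _).trans (Finset.card_image_le.trans hGcard))
  obtain ⟨B, hBT, hBsp, hBli⟩ := exists_linearIndependent k T
  have hBfin : B.Finite := by
    have hli : LinearIndependent k (fun x : B => (⟨x.1, hT.ge (Submodule.subset_span (hBT x.2))⟩ : V)) :=
      LinearIndependent.of_comp V.subtype hBli
    exact Set.finite_coe_iff.1 (hli.finite)
  have : Fintype B := hBfin.fintype
  have hBcard : Fintype.card B ≤ Fintype.card ι := by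
    refine le_trans ?_ hVn
    have h2 : V = Submodule.span k B := hT.trans hBsp.symm
    have h3 := finrank_span_eq_card hBli
    rw [Subtype.range_coe] at h3
    rw [h2]
    exact h3.ge
  have hch : ∀ x : B, ∃ (h : S) (a : ℕ), 0 < a ∧ h.1.IsHomogeneous a ∧ U.mkQ h = x.1 := fun x => hBT x.2
  choose hB aB haB hhB hqB using hch
  let eB := (Fintype.equivFin B).symm
  refine ⟨Fintype.card B, fun j => (hB (eB j)).1, fun j => aB (eB j), hBcard,
    fun j => ⟨(hB (eB j)).2, hhB _, haB _⟩, ?_⟩
  -- graded Nakayama
  let W := Algebra.adjoin k (Set.range fun j => (hB (eB j)).1)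
  have hrange : (Set.range fun j => (hB (eB j)).1) = Set.range fun x : B => (hB x).1 :=
    eB.surjective.range_comp (fun x : B => (hB x).1)
  refine le_antisymm (Algebra.adjoin_le (Set.range_subset_iff.2 fun j => (hB (eB j)).2)) ?_
  suffices key : ∀ d, ∀ f : S, f.1.IsHomogeneous d → f.1 ∈ W by
    intro f hf
    rw [← sum_homogeneousComponent f]
    exact sum_mem fun d _ => key d ⟨_, component_mem_invariants hlin hf d⟩ (homogeneousComponent_isHomogeneous d f)
  intro d
  induction d using Nat.strong_induction_on with
  | _ d IH =>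
    intro f hf
    rcases Nat.eq_zero_or_pos d with rfl | hd
    · rw [(totalDegree_eq_zero_iff_eq_C).1 ((totalDegree_zero_iff_isHomogeneous ι).2 hf)]
      exact W.algebraMap_mem _
    have hfV : U.mkQ f ∈ Submodule.span k (Set.range fun x : B => U.mkQ (hB x)) := by
      simp only [hqB, Subtype.range_coe_subtype, Set.ofPred_mem_eq, hBsp]
      exact Submodule.subset_span ⟨f, d, hd, hf, rfl⟩
    obtain ⟨c, hc⟩ := (Submodule.mem_span_range_iff_exists_fun k).1 hfV
    have hrest : f - ∑ x, c x • hB x ∈ n₀ ^ 2 := by
      have : U.mkQ (f - ∑ x, c x • hB x) = 0 := by simp [map_sub, map_sum, map_smul, ← hc]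
      exact (Submodule.Quotient.mk_eq_zero U).1 this
    have hsq : ∀ z ∈ n₀ ^ 2, homogeneousComponent d z.1 ∈ W := by
      intro z hz
      rw [pow_two] at hz
      induction hz using Submodule.mul_induction_on' with
      | mem_mul_mem x hx y hy =>
        show homogeneousComponent d (x.1 * y.1) ∈ W
        rw [← sum_homogeneousComponent x.1, Finset.sum_mul, map_sum]
        refine sum_mem fun i _ => ?_
        rw [component_mul (homogeneousComponent_isHomogeneous i _)]
        split_ifs with hi
        · rcases Nat.eq_zero_or_pos i with rfl | hipos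
          · have h1 : MvPolynomial.coeff (0 : ι →₀ ℕ) x.1 = 0 := hx
            rw [homogeneousComponent_zero, h1, map_zero, zero_mul]
            exact zero_mem _
          rcases eq_or_lt_of_le hi with rfl | hlt
          · have h1 : MvPolynomial.coeff (0 : ι →₀ ℕ) y.1 = 0 := hy
            rw [Nat.sub_self, homogeneousComponent_zero, h1, map_zero, mul_zero]
            exact zero_mem _
          exact mul_mem (IH i hlt ⟨_, component_mem_invariants hlin x.2 i⟩ (homogeneousComponent_isHomogeneous i _))
            (IH (d - i) (by omega) ⟨_, component_mem_invariants hlin y.2 _⟩ (homogeneousComponent_isHomogeneous _ _))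
        · exact zero_mem _
      | add x _ y _ hx hy =>
        show homogeneousComponent d (x.1 + y.1) ∈ W
        rw [map_add]; exact add_mem hx hy
    have hdec : f.1 = homogeneousComponent d (f - ∑ x, c x • hB x).1 + ∑ x, c x • homogeneousComponent d (hB x).1 := by
      simp only [AddSubgroupClass.coe_sub, AddSubmonoidClass.coe_finsetSum, SetLike.val_smul, map_sub, map_sum,
        map_smul, sub_add_cancel]
      rw [homogeneousComponent_of_mem hf, if_pos rfl]
    rw [hdec]
    refine add_mem (hsq _ hrest) (sum_mem fun x _ => W.smul_mem ?_ _)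
    rw [homogeneousComponent_of_mem (hhB x)]
    split_ifs
    · exact Algebra.subset_adjoin (hrange ▸ Set.mem_range_self x)
    · exact zero_mem _

/-- the invariants are a polynomial ring on homogeneous generators cutting out the origin -/
theorem exists_generators : ∃ h : Fin (Fintype.card ι) → MvPolynomial ι k,
    (∀ j, h j ∈ GLin.invariants k A (MvPolynomial ι k) ∧ constantCoeff (h j) = 0) ∧
      Algebra.adjoin k (Set.range h) = GLin.invariants k A (MvPolynomial ι k) ∧
      Function.Injective (MvPolynomial.aeval h : MvPolynomial (Fin (Fintype.card ι)) k → MvPolynomial ι k) ∧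
      ∀ i, ∃ N, (X i : MvPolynomial ι k) ^ N ∈ Ideal.span (Set.range h) := by
  classical
  obtain ⟨m, h, a, hm, hh, hadj⟩ := exists_homogeneous_span hG hsub hlin hgen
  let S := GLin.invariants k A (MvPolynomial ι k)
  have : Algebra.IsIntegral S (MvPolynomial ι k) :=
    InvTheory.isIntegral_invariants coact_mul' coact_one' fun _ => Iff.rfl
  let φ : MvPolynomial (Fin m) k →ₐ[k] S := MvPolynomial.aeval fun j => (⟨h j, (hh j).1⟩ : S)
  have hφval : ∀ p, (φ p).1 = MvPolynomial.aeval h p := fun p => by
    change S.val (φ p) = _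
    exact congrArg (fun F : MvPolynomial (Fin m) k →ₐ[k] MvPolynomial ι k => F p)
      (MvPolynomial.algHom_ext (f := S.val.comp φ) (g := MvPolynomial.aeval h) fun j => by simp [φ])
  have hφs : Function.Surjective φ := fun s => by
    have h1 : s.1 ∈ Algebra.adjoin k (Set.range h) := hadj ▸ s.2
    rw [Algebra.adjoin_range_eq_range_aeval] at h1
    obtain ⟨p, hp⟩ := h1
    exact ⟨p, Subtype.ext ((hφval p).trans hp)⟩
  have hdim : ringKrullDim S = Fintype.card ι := by
    rw [← Calg8.ringKrullDim_eq_of_integral S (MvPolynomial ι k) Subtype.val_injective,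
      MvPolynomial.ringKrullDim_of_isNoetherianRing, ringKrullDim_eq_zero_of_field, zero_add, Nat.card_eq_fintype_card]
  have hdimm : ringKrullDim (MvPolynomial (Fin m) k) = m := by
    rw [MvPolynomial.ringKrullDim_of_isNoetherianRing, ringKrullDim_eq_zero_of_field, zero_add, Nat.card_fin]
  have hinj : Function.Injective φ := by
    rw [injective_iff_map_eq_zero]
    intro r hr
    by_contra hne
    have h1 := ringKrullDim_succ_le_of_surjective φ.toRingHom hφs (mem_nonZeroDivisors_of_ne_zero hne) hr
    rw [hdim, hdimm] at h1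
    have : Fintype.card ι + 1 ≤ m := by exact_mod_cast h1
    omega
  obtain rfl : m = Fintype.card ι := by
    have h1 := ringKrullDim_eq_of_ringEquiv (RingEquiv.ofBijective φ.toRingHom ⟨hinj, hφs⟩)
    rw [hdim, hdimm] at h1
    exact_mod_cast h1
  have hconst : ∀ j, constantCoeff (h j) = 0 := fun j =>
    (hh j).2.1.coeff_eq_zero (d := 0) (by simp; exact (hh j).2.2.ne)
  refine ⟨h, fun j => ⟨(hh j).1, hconst j⟩, hadj, fun p q e => hinj (Subtype.ext (by rw [hφval, hφval]; exact e)), fun i => ?_⟩
  have hJ : ∀ g : S, constantCoeff g.1 = 0 → g.1 ∈ Ideal.span (Set.range h) := by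
    intro g hg
    obtain ⟨p, rfl⟩ := hφs g
    rw [hφval] at hg ⊢
    have h2 : ∀ r : MvPolynomial (Fin (Fintype.card ι)) k,
        MvPolynomial.aeval h r - C (constantCoeff r) ∈ Ideal.span (Set.range h) := by
      intro r
      induction r using MvPolynomial.induction_on with
      | C c => simp
      | add p q hp hq =>
        rw [map_add, map_add, map_add, add_sub_add_comm]; exact add_mem hp hq
      | mul_X p j hp =>
        simp only [map_mul, aeval_X, constantCoeff_X, mul_zero, map_zero, sub_zero]
        exact Ideal.mul_mem_left _ _ (Ideal.subset_span ⟨j, rfl⟩)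
    have h3 := h2 p
    have h4 : constantCoeff (MvPolynomial.aeval h p) = constantCoeff p := by
      have : Ideal.span (Set.range h) ≤ RingHom.ker (constantCoeff : MvPolynomial ι k →+* k) :=
        Ideal.span_le.2 (Set.range_subset_iff.2 hconst)
      have h5 := this h3
      rw [RingHom.mem_ker, map_sub, constantCoeff_C, sub_eq_zero] at h5
      exact h5
    rwa [← h4, hg, map_zero, sub_zero] at h3
  obtain ⟨P, hPm, hP⟩ := (Algebra.IsIntegral.isIntegral (R := S) (X i : MvPolynomial ι k))
  refine ⟨P.natDegree, ?_⟩
  rw [← Polynomial.aeval_def, Polynomial.aeval_eq_sum_range] at hP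
  have h1 := congrArg (homogeneousComponent P.natDegree) hP
  rw [map_sum, map_zero, Finset.sum_range_succ, hPm.coeff_natDegree, one_smul,
    homogeneousComponent_of_mem (isHomogeneous_X_pow i _), if_pos rfl] at h1
  rw [eq_neg_of_add_eq_zero_right h1]
  refine neg_mem (sum_mem fun j hj => ?_)
  rw [Finset.mem_range] at hj
  rw [Algebra.smul_def, mul_comm, component_mul (isHomogeneous_X_pow i j)]
  split_ifs with hle
  · refine Ideal.mul_mem_left _ _ (hJ ⟨_, component_mem_invariants hlin (P.coeff j).2 _⟩ ?_)
    show (MvPolynomial.coeff (0 : ι →₀ ℕ) (homogeneousComponent (P.natDegree - j) (P.coeff j).1) : k) = 0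
    rw [coeff_homogeneousComponent, if_neg (by simp; omega)]
  · exact zero_mem _

end Groth.ComodLib.CST
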